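import Groth.Agent.Vancyc.H687.Contract
import Groth.Agent.Sga4B.LineAff
import Groth.Agent.Etrest.ConstBasic
import Mathlib.RingTheory.MvPolynomial.Homogeneous
import Mathlib.RingTheory.Ideal.Quotient.Operations

/-!
# The scaling homotopy of an affine cone

`A = k[x_0, …, x_r]/I` with `I` generated by homogeneous polynomials (of any degrees).
-/

set_option autoImplicit false
universe u
open CategoryTheory CategoryTheory.Limits AlgebraicGeometry Opposite

namespace Groth.Agent.Vancyc.H687.Cone

open Groth.Agent.Sga4B Groth.Agent.Sga4B.AcycMor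

section Alg

variable {k : Type u} [CommRing k] {σ : Type} [Fintype σ] (I : Ideal (MvPolynomial σ k))

/-- polynomials in one variable over `A`, with the index type used by `IsLine`. -/
abbrev Poly (A : Type u) [CommRing A] : Type u := MvPolynomial (ULift.{u} (Fin 1)) A

/-- the variable -/
noncomputable abbrev tt (A : Type u) [CommRing A] : Poly A := MvPolynomial.X default

/-- scaling on polynomials -/
noncomputable def scal₀ : MvPolynomial σ k →+* Poly (MvPolynomial σ k ⧸ I) :=
  MvPolynomial.eval₂Hom (MvPolynomial.C.comp (algebraMap k (MvPolynomial σ k ⧸ I)))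
    (fun i => MvPolynomial.C (Ideal.Quotient.mk I (MvPolynomial.X i)) * tt _)

theorem scal₀_of_isHomogeneous {p : MvPolynomial σ k} {d : ℕ} (hp : p.IsHomogeneous d) :
    scal₀ I p = MvPolynomial.C (Ideal.Quotient.mk I p) * tt _ ^ d := by
  have h1 : MvPolynomial.C (Ideal.Quotient.mk I p) =
      MvPolynomial.eval₂ (MvPolynomial.C.comp (algebraMap k (MvPolynomial σ k ⧸ I)))
        (fun i => (MvPolynomial.C (Ideal.Quotient.mk I (MvPolynomial.X i)) :
          Poly (MvPolynomial σ k ⧸ I))) p := by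
    have h2 : ((MvPolynomial.C : (MvPolynomial σ k ⧸ I) →+* Poly (MvPolynomial σ k ⧸ I)).comp
        (Ideal.Quotient.mk I)) = MvPolynomial.eval₂Hom
          (MvPolynomial.C.comp (algebraMap k (MvPolynomial σ k ⧸ I)))
          (fun i => (MvPolynomial.C (Ideal.Quotient.mk I (MvPolynomial.X i)) :
            Poly (MvPolynomial σ k ⧸ I))) := by
      apply MvPolynomial.ringHom_ext
      · intro c
        simp only [RingHom.comp_apply, MvPolynomial.eval₂Hom_C]
        rfl
      · intro i
        simp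
    exact congrArg (fun f => f p) h2
  rw [h1, scal₀, MvPolynomial.coe_eval₂Hom, MvPolynomial.eval₂_eq', MvPolynomial.eval₂_eq',
    Finset.sum_mul]
  refine Finset.sum_congr rfl fun m hm => ?_
  have h3 : ∑ i, m i = d := by
    have := hp (MvPolynomial.mem_support_iff.1 hm)
    rw [← this, Finsupp.weight_apply, Finsupp.sum_fintype _ _ (by simp)]
    simp
  rw [mul_assoc, ← h3, ← Finset.prod_pow_eq_pow_sum, ← Finset.prod_mul_distrib]
  congr 1
  refine Finset.prod_congr rfl fun i _ => ?_
  rw [mul_pow]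

variable (hI : ∃ T : Set (MvPolynomial σ k), I = Ideal.span T ∧
  ∀ p ∈ T, ∃ d : ℕ, MvPolynomial.IsHomogeneous p d)

include hI in
theorem scal₀_mem {p : MvPolynomial σ k} (hp : p ∈ I) : scal₀ I p = 0 := by
  obtain ⟨T, hT, hd⟩ := hI
  have h1 : I ≤ RingHom.ker (scal₀ I) := by
    conv_lhs => rw [hT]
    rw [Ideal.span_le]
    intro q hq
    obtain ⟨d, hd⟩ := hd q hq
    have h2 : Ideal.Quotient.mk I q = 0 := by
      rw [Ideal.Quotient.eq_zero_iff_mem, hT]
      exact Ideal.subset_span hq
    change scal₀ I q = 0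
    rw [scal₀_of_isHomogeneous I hd, h2, map_zero, zero_mul]
  exact h1 hp

/-- scaling on the cone -/
noncomputable def scal : (MvPolynomial σ k ⧸ I) →+* Poly (MvPolynomial σ k ⧸ I) :=
  Ideal.Quotient.lift I (scal₀ I) (fun _ hp => scal₀_mem I hI hp)

theorem scal_mk (p : MvPolynomial σ k) : scal I hI (Ideal.Quotient.mk I p) = scal₀ I p :=
  Ideal.Quotient.lift_mk _ _ _

theorem scal_algebraMap : (scal I hI).comp (algebraMap k (MvPolynomial σ k ⧸ I)) =
    MvPolynomial.C.comp (algebraMap k (MvPolynomial σ k ⧸ I)) := by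
  ext c : 1
  have : algebraMap k (MvPolynomial σ k ⧸ I) c = Ideal.Quotient.mk I (MvPolynomial.C c) := rfl
  rw [RingHom.comp_apply, this, scal_mk, scal₀, MvPolynomial.coe_eval₂Hom, MvPolynomial.eval₂_C]

/-- evaluation at an element -/
noncomputable def ev (A : Type u) [CommRing A] (a : A) : Poly A →+* A := MvPolynomial.eval fun _ => a

theorem ev_C (A : Type u) [CommRing A] (a : A) : (ev A a).comp MvPolynomial.C = RingHom.id A := by
  ext x
  simp [ev]

theorem ev_tt (A : Type u) [CommRing A] (a : A) : ev A a (tt A) = a := by simp [ev, tt]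

theorem ev_one_scal : (ev _ 1).comp (scal I hI) = RingHom.id (MvPolynomial σ k ⧸ I) := by
  apply Ideal.Quotient.ringHom_ext
  apply MvPolynomial.ringHom_ext
  · intro c
    simp only [RingHom.comp_apply, scal_mk, scal₀, MvPolynomial.eval₂Hom_C, RingHom.id_apply]
    simp only [ev, MvPolynomial.eval_C]
    rfl
  · intro i
    simp only [RingHom.comp_apply, scal_mk, scal₀, MvPolynomial.eval₂Hom_X', RingHom.id_apply,
      map_mul, ev_tt, mul_one]
    simp [ev]

theorem ev_zero_scal (ε : (MvPolynomial σ k ⧸ I) →ₐ[k] k)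
    (hε : ∀ i, ε (Ideal.Quotient.mk I (MvPolynomial.X i)) = 0) :
    (ev _ 0).comp (scal I hI) = (algebraMap k (MvPolynomial σ k ⧸ I)).comp ε.toRingHom := by
  apply Ideal.Quotient.ringHom_ext
  apply MvPolynomial.ringHom_ext
  · intro c
    have h1 : ε (Ideal.Quotient.mk I (MvPolynomial.C c)) = c := ε.commutes c
    simp only [RingHom.comp_apply, scal_mk, scal₀, MvPolynomial.eval₂Hom_C]
    simp only [ev, MvPolynomial.eval_C]
    exact congrArg (algebraMap k (MvPolynomial σ k ⧸ I)) h1.symm
  · intro i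
    simp only [RingHom.comp_apply, scal_mk, scal₀, MvPolynomial.eval₂Hom_X', map_mul, ev_tt, mul_zero]
    have h1 : ε.toRingHom (Ideal.Quotient.mk I (MvPolynomial.X i)) = 0 := hε i
    rw [h1, map_zero]

end Alg

/-- `Spec A[t] ⟶ Spec A` is a line. -/
theorem isLine_C (A : Type u) [CommRing A] :
    Line.IsLine (Spec.map (CommRingCat.ofHom (MvPolynomial.C : A →+* Poly A))) :=
  ⟨(AffineSpace.SpecIso (ULift.{u} (Fin 1)) (CommRingCat.of A)).inv, inferInstance,
    AffineSpace.SpecIso_inv_over _⟩

open Groth.Agent.Etcore.HpullCalc in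
/-- Restriction to the vertex of a cone is bijective on cohomology with coefficients `ℤ/N`, `N` invertible. -/
theorem bijective_hp_vertex {k : Type u} [Field k] {σ : Type} [Fintype σ]
    (I : Ideal (MvPolynomial σ k)) (hI : ∃ T : Set (MvPolynomial σ k), I = Ideal.span T ∧
      ∀ p ∈ T, ∃ d : ℕ, MvPolynomial.IsHomogeneous p d)
    (ε : (MvPolynomial σ k ⧸ I) →ₐ[k] k)
    (hε : ∀ i, ε (Ideal.Quotient.mk I (MvPolynomial.X i)) = 0) {N : ℕ} (hN : (N : k) ≠ 0) (q : ℕ) :
    Function.Bijective (hp (Spec.map (CommRingCat.ofHom ε.toRingHom))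
      (EtCoh.const (Spec (CommRingCat.of (MvPolynomial σ k ⧸ I))) (ZMod N)) q) := by
  have hA : IsUnit (N : Γ(Spec (CommRingCat.of (MvPolynomial σ k ⧸ I)), ⊤)) := by
    have h1 : IsUnit (N : MvPolynomial σ k ⧸ I) := by
      have := (IsUnit.mk0 _ hN).map (algebraMap k (MvPolynomial σ k ⧸ I))
      rwa [map_natCast] at this
    have := h1.map (Scheme.ΓSpecIso (CommRingCat.of (MvPolynomial σ k ⧸ I))).inv.hom
    rwa [map_natCast] at this
  have hε1 : ε.toRingHom.comp (algebraMap k (MvPolynomial σ k ⧸ I)) = RingHom.id k := by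
    ext c
    exact ε.commutes c
  have h := Contract.bijective_hp_of_contraction (n := N)
    (Spec.map (CommRingCat.ofHom (algebraMap k (MvPolynomial σ k ⧸ I))))
    (Spec.map (CommRingCat.ofHom ε.toRingHom))
    (by rw [← Spec.map_comp, ← CommRingCat.ofHom_comp, hε1]; exact Spec.map_id _)
    (Spec.map (CommRingCat.ofHom (MvPolynomial.C : _ →+* Poly (MvPolynomial σ k ⧸ I))))
    (Spec.map (CommRingCat.ofHom (scal I hI)))
    (LineAff.acyc_line (isLine_C _) hA)
    (Spec.map (CommRingCat.ofHom (ev (MvPolynomial σ k ⧸ I) 0)))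
    (Spec.map (CommRingCat.ofHom (ev (MvPolynomial σ k ⧸ I) 1)))
    (by rw [← Spec.map_comp, ← CommRingCat.ofHom_comp, ev_C]; exact Spec.map_id _)
    (by rw [← Spec.map_comp, ← CommRingCat.ofHom_comp, ev_C]; exact Spec.map_id _)
    (by rw [← Spec.map_comp, ← Spec.map_comp, ← CommRingCat.ofHom_comp, ← CommRingCat.ofHom_comp,
      ev_zero_scal I hI ε hε])
    (by rw [← Spec.map_comp, ← CommRingCat.ofHom_comp, ev_one_scal]; exact Spec.map_id _)
    (by rw [← Spec.map_comp, ← Spec.map_comp, ← CommRingCat.ofHom_comp, ← CommRingCat.ofHom_comp,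
      scal_algebraMap])
    (EtCoh.const (Spec (CommRingCat.of k)) (ZMod N))
    (Groth.Agent.Etrest.ConstBasic.killedBy_const _ (ZMod N) N (fun a => by simp)) q
  exact bijective_hp_of_iso _ (EtCore.pullConst _ (ZMod N)) h

end Groth.Agent.Vancyc.H687.Cone
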