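import Groth.Agent.Vancyc.H691.Cone
import Groth.Agent.Vancyc.H691.RelSec
import Groth.Agent.Sga67.Sec

/-!
# `V(g^* G) ⟶ V(G)`

* `exists_univ`: the universal linear map `M ⟶ q_* O_V`, `q = toX hM : V hM ⟶ X`;
* `exists_map`: `b : V(G') ⟶ V(G)` over `g : Z' ⟶ Z`, `g^* G ≅ G'`; the inverse image of the zero section of `V(G)` is
  the zero section of `V(G')`.
-/

set_option autoImplicit false
universe u

open CategoryTheory CategoryTheory.Limits AlgebraicGeometry Opposite TopologicalSpace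

namespace Groth.Agent.Vancyc.H687.VPull

open Groth.Agent.CohqB.AlgSys Groth.Agent.CohqB.AlgSym Groth.Agent.Vancyc.H691.Cone
open Groth.Agent.Ega2.H280.RelSpecAlg Groth.Agent.CohqB Groth.Agent.CohqB.SymLoc
open AlgebraicGeometry.Scheme.AffineZariskiSite AlgebraicGeometry.Scheme

section Univ

variable {X : Scheme.{u}} {M : X.Modules} (hM : Coh.IsQCoh M)

/-- Functions on `V` over an affine open. -/
noncomputable abbrev sh (U : X.AffineZariskiSite) :
    Γ(V hM, toX hM ⁻¹ᵁ U.toOpens) ⟶ (symF M).obj (op U) := secHom (coequifibered hM) U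

theorem toX_sh (U : X.AffineZariskiSite) (r : Γ(X, U.toOpens)) :
    (sh hM U).hom (((toX hM).app U.toOpens).hom r) =
      algebraMap Γ(X, U.toOpens) (SymmetricAlgebra Γ(X, U.toOpens) Γ(M, U.toOpens)) r :=
  congr(($(app_secHom (coequifibered hM) U)).hom r)

theorem sh_injective (U : X.AffineZariskiSite) : Function.Injective (sh hM U).hom :=
  ((ConcreteCategory.isIso_iff_bijective (secHom (coequifibered hM) U)).1 inferInstance).1

theorem sh_surjective (U : X.AffineZariskiSite) : Function.Surjective (sh hM U).hom :=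
  ((ConcreteCategory.isIso_iff_bijective (secHom (coequifibered hM) U)).1 inferInstance).2

/-- `Γ(M, U) ⟶ Γ(V, q⁻¹ U)`. -/
noncomputable def uU (U : X.AffineZariskiSite) : Γ(M, U.toOpens) →+ Γ(V hM, toX hM ⁻¹ᵁ U.toOpens) :=
  (RingEquiv.ofBijective (sh hM U).hom ⟨sh_injective hM U, sh_surjective hM U⟩).symm.toRingHom.toAddMonoidHom.comp
    (SymmetricAlgebra.ι Γ(X, U.toOpens) Γ(M, U.toOpens)).toAddMonoidHom

theorem sh_uU (U : X.AffineZariskiSite) (m : Γ(M, U.toOpens)) :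
    (sh hM U).hom (uU hM U m) = SymmetricAlgebra.ι Γ(X, U.toOpens) Γ(M, U.toOpens) m :=
  (RingEquiv.ofBijective (sh hM U).hom ⟨sh_injective hM U, sh_surjective hM U⟩).apply_symm_apply _

theorem uU_smul (U : X.AffineZariskiSite) (r : Γ(X, U.toOpens)) (m : Γ(M, U.toOpens)) :
    uU hM U (r • m) = ((toX hM).app U.toOpens).hom r * uU hM U m := by
  apply sh_injective hM U
  rw [map_mul, sh_uU, sh_uU, toX_sh, LinearMap.map_smul, Algebra.smul_def]
  rfl

theorem uU_res {U U' : X.AffineZariskiSite} (i : U ⟶ U') (m : Γ(M, U'.toOpens)) :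
    uU hM U ((M.presheaf.map (homOfLE (toOpens_mono i.le)).op).hom m) =
      ((V hM).presheaf.map (homOfLE ((toX hM).preimage_mono (toOpens_mono i.le))).op).hom
        (uU hM U' m) := by
  apply sh_injective hM U
  rw [sh_uU]
  have h1 := congr(($(secHom_naturality (coequifibered hM) i)).hom (uU hM U' m))
  refine Eq.trans ?_ h1.symm
  change _ = ((symF M).map i.op).hom ((sh hM U').hom (uU hM U' m))
  rw [sh_uU]
  exact (symMap_ι _ _ (res_smul' M i.op) m).symm

/-- **The universal linear map.** -/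
theorem exists_univ : ∃ u : M ⟶ Oalg (toX hM), ∀ (U : X.AffineZariskiSite) (m : Γ(M, U.toOpens)),
    toFun (toX hM) U.toOpens (u.app U.toOpens m) = uU hM U m := by
  let φ : ∀ U : X.affineOpens, Sga67.Sec.Sec M U.1 →ₗ[Γ(X, U.1)] Sga67.Sec.Sec (Oalg (toX hM)) U.1 :=
    fun U =>
    { toFun := fun m => (toFun (toX hM) U.1).symm (uU hM ⟨U.1, U.2⟩ m)
      map_add' := fun m m' => by
        refine Eq.trans ?_ (map_add (toFun (toX hM) U.1).symm _ _)
        exact congrArg _ (map_add (uU hM ⟨U.1, U.2⟩) m m')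
      map_smul' := fun r m => by
        apply (toFun (toX hM) U.1).injective
        refine (AddEquiv.apply_symm_apply _ _).trans (Eq.trans ?_ (toFun_smul (toX hM) U.1 r _).symm)
        exact uU_smul hM ⟨U.1, U.2⟩ r m }
  -- compatibility with distinguished opens
  have hφ : ∀ (i : X.affineOpens) (V : X.AffineZariskiSite) (hV : V ≤ (⟨i.1, i.2⟩ : X.AffineZariskiSite))
      (s : Sga67.Sec.Sec M i.1), Sga67.Sec.res (Oalg (toX hM)) (toOpens_mono hV) (φ i s) =
        φ ⟨V.toOpens, V.2⟩ (Sga67.Sec.res M (toOpens_mono hV) s) := by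
    intro i V hV s
    exact (uU_res hM (homOfLE hV) s).symm
  obtain ⟨u, hu⟩ := Sga67.Sec.exists_hom_of_basis' (Sga67.Sec.affineBasis X) M (Oalg (toX hM)) φ
    (fun i j h s => by
      apply Sga67.Sec.eq_of_locally
      intro x hx
      obtain ⟨f, g, hfg, hxf⟩ := exists_basicOpen_le_affine_inter j.2 i.2 x ⟨hx, h hx⟩
      let Vj : X.AffineZariskiSite := AffineZariskiSite.basicOpen ⟨j.1, j.2⟩ f
      let Vi : X.AffineZariskiSite := AffineZariskiSite.basicOpen ⟨i.1, i.2⟩ g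
      have hV : Vj = Vi := Subtype.ext hfg
      have hj : Vj ≤ (⟨j.1, j.2⟩ : X.AffineZariskiSite) := AffineZariskiSite.basicOpen_le _ f
      have hi : Vj ≤ (⟨i.1, i.2⟩ : X.AffineZariskiSite) := by
        rw [hV]
        exact AffineZariskiSite.basicOpen_le _ g
      refine ⟨Vj.toOpens, toOpens_mono hj, hxf, ?_⟩
      rw [hφ j Vj hj, Sga67.Sec.res_res, Sga67.Sec.res_res]
      exact (hφ i Vj hi s).symm)
  refine ⟨u, fun U m => ?_⟩
  exact congrArg (toFun (toX hM) U.toOpens) (hu ⟨U.1, U.2⟩ m)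

variable {hM}

theorem sh_ψ (u : M ⟶ Oalg (toX hM)) (hu : ∀ (U : X.AffineZariskiSite) (m : Γ(M, U.toOpens)),
    toFun (toX hM) U.toOpens (u.app U.toOpens m) = uU hM U m) (U : X.AffineZariskiSite) :
    (sh hM U).hom.comp (ψ (toX hM) u U.toOpens) = RingHom.id _ := by
  apply ringHom_ext
  · intro r
    rw [RingHom.comp_apply, ψ_algebraMap, toX_sh]
    rfl
  · intro m
    rw [RingHom.comp_apply, ψ_ι, hu, sh_uU]
    rfl

theorem iSup_affineOpens : ⨆ U : X.affineOpens, U.1 = ⊤ := by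
  rw [eq_top_iff]
  intro x _
  obtain ⟨_, ⟨V, hV, rfl⟩, hxV, -⟩ :=
    X.isBasis_affineOpens.exists_subset_of_mem_open (Set.mem_univ x) isOpen_univ
  exact Opens.mem_iSup.2 ⟨⟨V, hV⟩, hxV⟩

theorem toV_univ (u : M ⟶ Oalg (toX hM)) (hu : ∀ (U : X.AffineZariskiSite) (m : Γ(M, U.toOpens)),
    toFun (toX hM) U.toOpens (u.app U.toOpens m) = uU hM U m) : toV hM (toX hM) u = 𝟙 _ := by
  have := isAffineHom_toX hM
  refine eq_of_appLE (toX hM) _ _ (toV_toX _ _ _) (Category.id_comp _)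
    (fun U : X.affineOpens => U.1) (fun U => U.2) iSup_affineOpens fun U => ?_
  let U' : X.AffineZariskiSite := ⟨U.1, U.2⟩
  refine (H691.RelSec.lift_appLE (coequifibered hM) (liftData (toX hM) u) U' _).trans ?_
  ext1
  refine RingHom.ext fun y => ?_
  apply sh_injective hM U'
  refine (congr($(sh_ψ u hu U') ((sh hM U').hom y))).trans ?_
  have h1 : (𝟙 (V hM) : V hM ⟶ V hM).appLE (toX hM ⁻¹ᵁ U.1) (toX hM ⁻¹ᵁ U.1)
      (le_preimage (toX hM) (toX hM) (𝟙 _) (Category.id_comp _) U.1) = 𝟙 _ :=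
    (Scheme.Hom.app_eq_appLE (𝟙 (V hM))).symm.trans (Scheme.Hom.id_app _)
  rw [h1]
  rfl

/-- Every morphism to `V` comes from a linear map. -/
theorem eq_toV (u : M ⟶ Oalg (toX hM)) (hu : ∀ (U : X.AffineZariskiSite) (m : Γ(M, U.toOpens)),
    toFun (toX hM) U.toOpens (u.app U.toOpens m) = uU hM U m) {T : Scheme.{u}} (h : T ⟶ X)
    (t : T ⟶ V hM) (ht : t ≫ toX hM = h) : t = toV hM h (u ≫ Omap h (toX hM) t ht) := by
  rw [← comp_toV hM h (toX hM) _ u t ht rfl, toV_univ u hu, Category.comp_id]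

end Univ

section Map

variable {Z Z' : Scheme.{u}} (g : Z' ⟶ Z) {G : Z.Modules} (hG : Coh.IsQCoh G)
  {G' : Z'.Modules} (hG' : Coh.IsQCoh G') (e : (Scheme.Modules.pullback g).obj G ≅ G')

/-- The unit `Γ(G, U) ⟶ Γ(g^* G, g⁻¹ U)`. -/
noncomputable abbrev un (G : Z.Modules) (U : Z.Opens) (m : Γ(G, U)) :
    Γ((Scheme.Modules.pullback g).obj G, g ⁻¹ᵁ U) :=
  ((Scheme.Modules.pullbackPushforwardAdjunction g).unit.app G).app U m

/-- A linear map on `g^* G` vanishes if it vanishes on the sections of `G`. -/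
theorem eq_zero_of_unit {N : Z'.Modules} (φ : (Scheme.Modules.pullback g).obj G ⟶ N)
    (H : ∀ U : Z.Opens, IsAffineOpen U → ∀ m : Γ(G, U), φ.app (g ⁻¹ᵁ U) (un g G U m) = 0) :
    φ = 0 := by
  apply ((Scheme.Modules.pullbackPushforwardAdjunction g).homEquiv G N).injective
  rw [Adjunction.homEquiv_unit, Adjunction.homEquiv_unit]
  apply AlgMod.hom_ext_affine
  intro U hU m
  exact H U hU m

/-- The linear map on `G` attached to a linear map on `g^* G`. -/
noncomputable def adjr {T : Scheme.{u}} (h : T ⟶ Z')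
    (ρ : (Scheme.Modules.pullback g).obj G ⟶ Oalg h) : G ⟶ Oalg (h ≫ g) :=
  (Scheme.Modules.pullbackPushforwardAdjunction g).homEquiv G (Oalg h) ρ ≫
    (Scheme.Modules.pushforwardComp h g).hom.app (Coh.structureModule T)

theorem adjr_app {T : Scheme.{u}} (h : T ⟶ Z') (ρ : (Scheme.Modules.pullback g).obj G ⟶ Oalg h)
    (U : Z.Opens) (m : Γ(G, U)) :
    toFun (h ≫ g) U ((adjr g h ρ).app U m) = toFun h (g ⁻¹ᵁ U) (ρ.app (g ⁻¹ᵁ U) (un g G U m)) := by
  rw [adjr, Adjunction.homEquiv_unit]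
  rfl

theorem adjr_comp {T T' : Scheme.{u}} (h : T ⟶ Z') (h' : T' ⟶ Z') (t : T ⟶ T') (ht : t ≫ h' = h)
    (ρ : (Scheme.Modules.pullback g).obj G ⟶ Oalg h') :
    adjr g h' ρ ≫ Omap (h ≫ g) (h' ≫ g) t (by rw [← Category.assoc, ht]) =
      adjr g h (ρ ≫ Omap h h' t ht) := by
  apply AlgMod.hom_ext_affine
  intro U hU m
  apply (toFun (h ≫ g) U).injective
  rw [adjr_app]
  refine (Omap_app (h ≫ g) (h' ≫ g) t (by rw [← Category.assoc, ht]) U
    ((adjr g h' ρ).app U m)).trans ?_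
  rw [adjr_app]
  rfl

include e in
/-- **`V(g^* G) ⟶ V(G)` and the zero sections.** -/
theorem exists_map : ∃ b : V hG' ⟶ V hG, b ≫ toX hG = toX hG' ≫ g ∧
    IsPullback g (zero hG') (zero hG) b := by
  obtain ⟨u, hu⟩ := exists_univ hG'
  let b : V hG' ⟶ V hG := toV hG (toX hG' ≫ g) (adjr g (toX hG') (e.hom ≫ u))
  have hb : b ≫ toX hG = toX hG' ≫ g := toV_toX _ _ _
  have h0 : u ≫ Omap (𝟙 Z') (toX hG') (zero hG') (zero_toX hG') = 0 := by
    apply AlgMod.hom_ext_affine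
    intro U hU m
    exact app_eq_of_toV_eq hG' (𝟙 Z') _ _ (eq_toV u hu (𝟙 Z') (zero hG') (zero_toX hG')).symm U hU m
  have key : ∀ {T : Scheme.{u}} (h : T ⟶ Z') (t : T ⟶ V hG') (ht : t ≫ toX hG' = h),
      t ≫ b = toV hG (h ≫ g) (adjr g h (e.hom ≫ u ≫ Omap h (toX hG') t ht)) := fun h t ht =>
    comp_toV hG (h ≫ g) (toX hG' ≫ g) _ _ t _ (by
      rw [adjr_comp g h (toX hG') t ht (e.hom ≫ u), Category.assoc])
  have hz : ∀ {T : Scheme.{u}} (c : T ⟶ Z), c ≫ zero hG = toV hG c 0 := fun c =>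
    comp_toV hG c (𝟙 Z) 0 0 c (Category.comp_id _) zero_comp
  have hz' : ∀ {T : Scheme.{u}} (c : T ⟶ Z'), c ≫ zero hG' = toV hG' c 0 := fun c =>
    comp_toV hG' c (𝟙 Z') 0 0 c (Category.comp_id _) zero_comp
  have hadj0 : ∀ {T : Scheme.{u}} (h : T ⟶ Z'), adjr g h (0 : _ ⟶ Oalg h) = (0 : G ⟶ _) := by
    intro T h
    apply AlgMod.hom_ext_affine
    intro U hU m
    apply (toFun (h ≫ g) U).injective
    rw [adjr_app]
    rfl
  have w : g ≫ zero hG = zero hG' ≫ b := by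
    rw [key (𝟙 Z') (zero hG') (zero_toX hG'), h0, comp_zero, hadj0, hz]
    congr 1
  refine ⟨b, hb, ⟨⟨w⟩, ⟨PullbackCone.IsLimit.mk w (fun c => c.snd ≫ toX hG') ?_ ?_ ?_⟩⟩⟩
  · intro c
    rw [Category.assoc, ← hb, ← Category.assoc, ← c.condition, Category.assoc, zero_toX,
      Category.comp_id]
  · intro c
    have h1 : u ≫ Omap (c.snd ≫ toX hG') (toX hG') c.snd rfl = 0 := by
      rw [← cancel_epi e.hom, comp_zero]
      apply eq_zero_of_unit g
      intro U hU m
      have h2 : (c.snd ≫ toX hG') ≫ g = c.fst := by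
        rw [Category.assoc, ← hb, ← Category.assoc, ← c.condition, Category.assoc, zero_toX,
          Category.comp_id]
      have h3 : toV hG ((c.snd ≫ toX hG') ≫ g)
          (adjr g _ (e.hom ≫ u ≫ Omap (c.snd ≫ toX hG') (toX hG') c.snd rfl)) =
            toV hG ((c.snd ≫ toX hG') ≫ g) 0 := by
        rw [← key _ c.snd rfl, ← hz, h2, c.condition]
      have h4 := app_eq_of_toV_eq hG _ _ _ h3 U hU m
      apply (toFun (c.snd ≫ toX hG') (g ⁻¹ᵁ U)).injective
      rw [← adjr_app, h4]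
      rfl
    exact (hz' _).trans ((congrArg (toV hG' _) h1.symm).trans
      (eq_toV u hu (c.snd ≫ toX hG') c.snd rfl).symm)
  · intro c m h1 h2
    rw [← h2, Category.assoc, zero_toX, Category.comp_id]

end Map

end Groth.Agent.Vancyc.H687.VPull
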