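import Groth.Agent.EtpbcB.StrictLoc
import Groth.Agent.Etcore.LimEt
import Groth.Agent.Sga4B.HVia
import Groth.Agent.Etcore.Torsion

/-!
# Classes which vanish on a fibre of a proper morphism vanish over an étale neighbourhood

* `exists_stage`: `f : X ⟶ Y` qcqs, `ξ` a geometric point of `Y`: a class on `X` which dies on
  `X ×_Y Spec O^sh` dies on `X ×_Y V` for an étale neighbourhood `V` of `ξ`.
* `exists_nbhd`: the same for `f` proper, the class dying on the fibre (proper base change is the hypothesis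
  `PBC`, see `pbc_of`).
-/

set_option autoImplicit false
universe u
open CategoryTheory CategoryTheory.Limits AlgebraicGeometry Opposite
open scoped Groth.Agent.Etcore.EtInst

namespace Groth.Agent.Vancyc.H687.LocZero

open Groth.Agent.Etcore.EtInst Groth.Agent.Etcore.HpullCalc Groth.Agent.EtpbcB
  Groth.Agent.EtpbcB.StrictLoc

noncomputable section

theorem hp_eq_zero_of_comp {X Y Z : Scheme.{u}} (f : X ⟶ Y) (g : Y ⟶ Z) (G : EtCoh.Ab Z) (n : ℕ)
    (x : HH Z G n) (h : hp g G n x = 0) : hp (f ≫ g) G n x = 0 := by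
  rw [← map_pullComp_inv_hp, h, map_zero, map_zero]

theorem hp_hp_eq_zero_iff {X Y Z : Scheme.{u}} (f : X ⟶ Y) (g : Y ⟶ Z) (G : EtCoh.Ab Z) (n : ℕ)
    (x : HH Z G n) : hp f _ n (hp g G n x) = 0 ↔ hp (f ≫ g) G n x = 0 := by
  rw [hp_comp]
  constructor
  · intro h
    refine (HHmap_bijective ((EtCore.pullComp f g).hom.app G) n).1 ?_
    rw [h, map_zero]
  · intro h
    rw [h, map_zero]

theorem hpVia_hp_eq_zero_iff {X Y Z : Scheme.{u}} (f : X ⟶ Y) (t : Y ⟶ Z) (f₀ : X ⟶ Z)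
    (w : f ≫ t = f₀) (G : EtCoh.Ab Z) (p : ℕ) (x : HH Z G p) :
    hpVia f t f₀ w G p (hp t G p x) = 0 ↔ hp f₀ G p x = 0 := by
  rw [hpVia_hp]

section

variable {X Y : Scheme.{u}} (f : X ⟶ Y) [QuasiCompact f] [QuasiSeparated f] {Ω : Type u} [Field Ω]
  [IsSepClosed Ω] (ξ : Spec (CommRingCat.of Ω) ⟶ Y) {XA : Scheme.{u}} {a : XA ⟶ X}
  {fA : XA ⟶ Spec (Osh ξ)} (h : IsPullback a fA f (toBase ξ)) (F : EtCoh.Ab X) (q : ℕ)

include h in
/-- A class on `X` which dies on `X ×_Y Spec O^sh` dies on `X ×_Y V` for an étale neighbourhood `V`. -/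
theorem exists_stage (x : HH X F q) (hx : hp a F q x = 0) :
    ∃ i : Idx ξ, hp ((EtCoh.bc f).obj ((D ξ).obj i)).hom F q x = 0 := by
  let p : ∀ i : Idx ξ, XA ⟶ (DX ξ f).obj i := fun i => legX ξ f h i
  let t : ∀ i : Idx ξ, (DX ξ f).obj i ⟶ X := fun i => ((EtCoh.bc f).obj ((D ξ).obj i)).hom
  have hpp : ∀ {x y : Idx ξ} (g : x ⟶ y), p x ≫ (DX ξ f).map g = p y := fun g => legX_map ξ f h g
  have ht : ∀ {x y : Idx ξ} (g : x ⟶ y), (DX ξ f).map g ≫ t y = t x :=
    fun g => BCCalc.left_hom ((EtCoh.bc f).map ((D ξ).map g))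
  have hq : ∀ j, p j ≫ t j = a := fun j => legX_hom ξ f h j
  have hc : IsLimit (Groth.Agent.Etcore.LimDeg0.coneOf p hpp) := isLimitConeX ξ f h
  obtain ⟨k, g, hk⟩ := Groth.Agent.Etcore.LimEt.exists_hp_eq_zero p hpp hc t ht hq F q (i₀ ξ)
    (hp (t (i₀ ξ)) F q x) (by rw [hpVia_hp]; exact hx)
  refine ⟨k, ?_⟩
  rw [hp_hp_eq_zero_iff, ht g] at hk
  exact hk

end

/-- Proper base change for the closed fibre over a henselian pair (`Sga4A.HensFibre.Hpull_proper`). -/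
def PBC : Prop := ∀ (A : Type u) [CommRing A] (I : Ideal A) [HenselianRing A I] (X X' : Scheme.{u})
  (f : X ⟶ Spec (CommRingCat.of A)) [IsProper f] (i : X' ⟶ X)
  (f' : X' ⟶ Spec (CommRingCat.of (A ⧸ I)))
  (_ : IsPullback i f' f (Spec.map (CommRingCat.ofHom (Ideal.Quotient.mk I)))) (F : EtCoh.Ab X)
  (_ : EtCoh.IsTorsion F) (q : ℕ), Function.Bijective (hp i F q)

/-- Proper base change for a surjection onto a field. -/
theorem PBC.field (hP : PBC.{u}) {A : CommRingCat.{u}} [HenselianLocalRing A] {k : Type u} [Field k]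
    (φ : A ⟶ CommRingCat.of k) (hφ : Function.Surjective φ.hom) {X X' : Scheme.{u}}
    (f : X ⟶ Spec A) [IsProper f] (i : X' ⟶ X) (b : X' ⟶ Spec (CommRingCat.of k))
    (h : IsPullback i b f (Spec.map φ)) (F : EtCoh.Ab X) (hF : EtCoh.IsTorsion F) (q : ℕ) :
    Function.Bijective (hp i F q) := by
  have hI : RingHom.ker φ.hom = IsLocalRing.maximalIdeal A := IsLocalRing.ker_eq_maximalIdeal _ hφ
  have h1 : HenselianRing A (RingHom.ker φ.hom) := by
    rw [hI]
    infer_instance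
  let e : (A ⧸ RingHom.ker φ.hom) ≃+* k := RingHom.quotientKerEquivOfSurjective hφ
  let ε : Spec (CommRingCat.of k) ≅ Spec (CommRingCat.of (A ⧸ RingHom.ker φ.hom)) :=
    Scheme.Spec.mapIso e.toCommRingCatIso.op
  have hε : ε.hom ≫ Spec.map (CommRingCat.ofHom (Ideal.Quotient.mk (RingHom.ker φ.hom))) =
      Spec.map φ := by
    change Spec.map _ ≫ Spec.map _ = _
    rw [← Spec.map_comp]
    congr 1
  have h2 : IsPullback i (b ≫ ε.hom) f
      (Spec.map (CommRingCat.ofHom (Ideal.Quotient.mk (RingHom.ker φ.hom)))) := by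
    refine IsPullback.of_iso h (Iso.refl _) (Iso.refl _) ε (Iso.refl _) ?_ ?_ ?_ ?_
    · simp
    · simp
    · simp
    · rw [Iso.refl_hom, Category.comp_id, hε]
  exact hP A (RingHom.ker φ.hom) X X' f i (b ≫ ε.hom) h2 F hF q

section

variable {X Y : Scheme.{u}} (f : X ⟶ Y) [IsProper f] {k : Type u} [Field k] [IsSepClosed k]
  (ξ : Spec (CommRingCat.of k) ⟶ Y)

omit [IsSepClosed k] in
theorem ev_surjective [IsSepClosed k] (y : Y ⟶ Spec (CommRingCat.of k)) (hy : ξ ≫ y = 𝟙 _) :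
    Function.Surjective (Groth.Agent.Etbase.StrictHensStalk.ev ξ).hom := by
  have h1 : pt ξ ≫ toBase ξ ≫ y = 𝟙 _ := by rw [pt_toBase_assoc, hy]
  obtain ⟨φ, hφ⟩ := Spec.map_surjective (toBase ξ ≫ y)
  rw [← hφ, pt, ← Spec.map_comp] at h1
  have h2 : φ ≫ Groth.Agent.Etbase.StrictHensStalk.ev ξ = 𝟙 _ := by
    apply Spec.map_injective
    rw [h1, Spec.map_id]
  intro x
  refine ⟨φ.hom x, ?_⟩
  exact congrArg (fun t : CommRingCat.of k ⟶ CommRingCat.of k => t.hom x) h2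

/-- **Localisation of the vanishing of a class on a fibre.** -/
theorem exists_nbhd (hP : PBC.{u}) (y : Y ⟶ Spec (CommRingCat.of k)) (hy : ξ ≫ y = 𝟙 _)
    {X₀ : Scheme.{u}} {i : X₀ ⟶ X} {b : X₀ ⟶ Spec (CommRingCat.of k)} (sq : IsPullback i b f ξ)
    (F : EtCoh.Ab X) (hF : EtCoh.IsTorsion F) (q : ℕ) (x : HH X F q) (hx : hp i F q x = 0) :
    ∃ j : Idx ξ, hp ((EtCoh.bc f).obj ((D ξ).obj j)).hom F q x = 0 := by
  have h : IsPullback (pullback.fst f (toBase ξ)) (pullback.snd f (toBase ξ)) f (toBase ξ) :=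
    IsPullback.of_hasPullback _ _
  refine exists_stage f ξ h F q x ?_
  let i' : X₀ ⟶ pullback f (toBase ξ) := h.lift i (b ≫ pt ξ) (by
    rw [Category.assoc, pt_toBase, sq.w])
  have h1 : i' ≫ pullback.fst f (toBase ξ) = i := h.lift_fst _ _ _
  have h2 : i' ≫ pullback.snd f (toBase ξ) = b ≫ pt ξ := h.lift_snd _ _ _
  have h3 : IsPullback i' b (pullback.snd f (toBase ξ)) (pt ξ) := by
    refine IsPullback.of_right ?_ h2 h
    rw [h1, pt_toBase]
    exact sq
  have h4 := (hP.field (Groth.Agent.Etbase.StrictHensStalk.ev ξ) (ev_surjective ξ y hy)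
    (pullback.snd f (toBase ξ)) i' b h3 ((EtCoh.pull (pullback.fst f (toBase ξ))).obj F) ?_ q).1
  · refine h4 ?_
    rw [map_zero, hp_hp_eq_zero_iff, h1]
    exact hx
  · exact Groth.Agent.Etcore.Torsion.isTorsion_pull _ F hF

end

end

end Groth.Agent.Vancyc.H687.LocZero
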