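import Groth.Agent.Vancyc.H687.TopH
import Groth.Agent.Vancyc.H687.LocZero
import Groth.Agent.Sga4B.DualFinal
import Groth.Agent.Sga4B.PkgB
import Groth.Agent.EtpbcA.CdTwoDim
import Groth.Agent.Sga4A.HensFibre

/-!
# The external inputs of `TopH` and `LocZero`: duality, cohomological dimension, proper base change
-/

set_option autoImplicit false
universe u

open CategoryTheory CategoryTheory.Limits AlgebraicGeometry

namespace Groth.Agent.Vancyc.H687.TopFinal

theorem hDual (k : Type u) [Field k] [IsAlgClosed k] (n : ℕ) (hn : (n : k) ≠ 0) :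
    TopH.HDual.{u} k n := by
  intro X P a _ j _ d _
  have hn0 : 0 < n := Nat.pos_of_ne_zero fun h => hn (by rw [h, Nat.cast_zero])
  obtain ⟨K, tr, -, h, he⟩ := Groth.Agent.Sga4B.DualFinal.duality a j d n hn0
    (Groth.Agent.Sga4B.PkgB.pkg k n hn d)
  exact ⟨K, tr, h, he⟩

theorem hCd (k : Type u) [Field k] [IsSepClosed k] : TopH.HCd.{u} k := by
  intro X a _ _ n hd
  exact Groth.Agent.EtpbcA.CdTwoDim.cohDimLE_two_mul X a n hd

theorem pbc : LocZero.PBC.{u} := by
  intro A _ I _ X X' f _ i f' h F hF q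
  exact Groth.Agent.Sga4A.HensFibre.Hpull_proper A I f i f' h F hF q

end Groth.Agent.Vancyc.H687.TopFinal
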