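import Groth.Agent.Etcore.OpenClosed
import Groth.Agent.Sga4B.HVia

/-!
# `j_! i_* C` for `i : T ⟶ X`, `j : X ⟶ P` an open immersion with `i ≫ j` a closed immersion

* `extPushIso : j_! i_* C ≅ (i ≫ j)_* C`;
* `isZero_pull` : `j_! i_* C` vanishes off the image of `T`.
-/

set_option autoImplicit false
universe u
open CategoryTheory CategoryTheory.Limits AlgebraicGeometry Opposite

namespace Groth.Agent.Vancyc.H687.Sky

open Groth.Agent.Etcore.OpenClosed Groth.Agent.Etcore.ShriekBasic Groth.Agent.Etcore.ShriekUnique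

noncomputable section

/-- The open complement of a closed immersion. -/
def compl {T P : Scheme.{u}} (i : T ⟶ P) [IsClosedImmersion i] : P.Opens :=
  ⟨(Set.range i)ᶜ, i.isClosedEmbedding.isClosed_range.isOpen_compl⟩

theorem range_compl {T P : Scheme.{u}} (i : T ⟶ P) [IsClosedImmersion i] :
    Set.range (compl i).ι = (Set.range i)ᶜ := by
  rw [Scheme.Opens.range_ι]
  rfl

theorem isCompl_compl {T P : Scheme.{u}} (i : T ⟶ P) [IsClosedImmersion i] :
    IsCompl (Set.range i) (Set.range (compl i).ι) := by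
  rw [range_compl]
  exact _root_.isCompl_compl

variable {T X P : Scheme.{u}} (i : T ⟶ X) (j : X ⟶ P) [IsOpenImmersion j]

/-- `j^{-1} (i ≫ j)_* C ≅ i_* C`. -/
def restrPushIso (C : EtCoh.Ab T) :
    (EtShriek.restrAlong j).obj ((EtCoh.push (i ≫ j)).obj C) ≅ (EtCoh.push i).obj C :=
  (EtShriek.restrAlong j).mapIso ((EtCoh.pushComp j i).app C).symm ≪≫
    (asIso (restrPushAdj j).counit).app ((EtCoh.push i).obj C)

variable [IsClosedImmersion (i ≫ j)]

omit [IsOpenImmersion j] in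
/-- The stalks of `i_* C` off the image. -/
theorem isZero_stalk_push' {T P : Scheme.{u}} (i : T ⟶ P) [IsClosedImmersion i] (C : EtCoh.Ab T)
    {Ω : Type u} [Field Ω] [IsSepClosed Ω] (ξ : Spec (CommRingCat.of Ω) ⟶ P)
    (h : ξ default ∉ Set.range i) : IsZero ((EtCoh.stalk ξ).obj ((EtCoh.push i).obj C)) := by
  refine isZero_stalk_push i (compl i).ι (isCompl_compl i).disjoint ξ ?_ C
  rw [range_compl]
  exact h

theorem isIso_counit (C : EtCoh.Ab T) :
    IsIso ((EtShriek.extZeroAdj j).counit.app ((EtCoh.push (i ≫ j)).obj C)) := by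
  refine isIso_counit_of_isZero_stalks j _ fun Ω _ _ ξ hξ => ?_
  refine isZero_stalk_push' (i ≫ j) C ξ fun h => ?_
  obtain ⟨t, ht⟩ := h
  exact hξ ⟨default, rfl⟩ ⟨i t, by rw [← ht]; rfl⟩

/-- `j_! i_* C ≅ (i ≫ j)_* C`. -/
def extPushIso (C : EtCoh.Ab T) :
    (EtShriek.extZero j).obj ((EtCoh.push i).obj C) ≅ (EtCoh.push (i ≫ j)).obj C :=
  have := isIso_counit i j C
  (EtShriek.extZero j).mapIso (restrPushIso i j C).symm ≪≫
    asIso ((EtShriek.extZeroAdj j).counit.app ((EtCoh.push (i ≫ j)).obj C))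

/-- The pull back of `i_* C` to an open (étale) disjoint from the image. -/
theorem isZero_pull_push {T P O : Scheme.{u}} (i : T ⟶ P) (ι : O ⟶ P) [IsOpenImmersion ι]
    (hd : Disjoint (Set.range i) (Set.range ι)) (C : EtCoh.Ab T) :
    IsZero ((EtCoh.pull ι).obj ((EtCoh.push i).obj C)) :=
  (isZero_restr_push i ι hd C).of_iso ((pullIsoRestr ι).app _)

theorem isZero_pull {O : Scheme.{u}} (ι : O ⟶ P) [IsOpenImmersion ι]
    (hd : Disjoint (Set.range (i ≫ j)) (Set.range ι)) (C : EtCoh.Ab T) :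
    IsZero ((EtCoh.pull ι).obj ((EtShriek.extZero j).obj ((EtCoh.push i).obj C))) :=
  (isZero_pull_push (i ≫ j) ι hd C).of_iso ((EtCoh.pull ι).mapIso (extPushIso i j C))

end

end Groth.Agent.Vancyc.H687.Sky
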