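import Groth.Agent.Vancyc.H687.LocZero
import Groth.Agent.Etcore.HC
import Mathlib.AlgebraicGeometry.AlgClosed.Basic

/-!
# Rigidity of restrictions to the slices of `Z ×_k U`, `Z` proper, `U` connected

`rigid`: `D ∈ H^q(Z ×_k U, M)`; the restriction of `D` to `Z × {a}`, `a ∈ U(k)`, does not depend on `a`.
-/

set_option autoImplicit false
universe u
open CategoryTheory CategoryTheory.Limits AlgebraicGeometry Opposite
open scoped Groth.Agent.Etcore.EtInst

namespace Groth.Agent.Vancyc.H687.Rigid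

open Groth.Agent.Etcore.EtInst Groth.Agent.Etcore.HpullCalc Groth.Agent.EtpbcB
  Groth.Agent.EtpbcB.StrictLoc Groth.Agent.Etcore.HC LocZero

noncomputable section

/-- A locally constant function on the closed points of a preconnected Jacobson space is constant. -/
theorem eq_of_locally_const {T : Type*} [TopologicalSpace T] [JacobsonSpace T] [PreconnectedSpace T]
    {β : Type*} (φ : closedPoints T → β)
    (h : ∀ x : closedPoints T, ∃ V : Set T, IsOpen V ∧ x.1 ∈ V ∧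
      ∀ y : closedPoints T, y.1 ∈ V → φ y = φ x) (a b : closedPoints T) : φ a = φ b := by
  choose V hV hxV hφ using h
  let A : Set T := ⋃ x : {x : closedPoints T // φ x = φ a}, V x.1
  let B : Set T := ⋃ x : {x : closedPoints T // φ x ≠ φ a}, V x.1
  have hA : IsOpen A := isOpen_iUnion fun x => hV _
  have hB : IsOpen B := isOpen_iUnion fun x => hV _
  have hAB : A ∪ B = Set.univ := by
    by_contra hne
    have h1 : (A ∪ B)ᶜ.Nonempty := Set.nonempty_compl.2 hne
    obtain ⟨y, hy1, hy2⟩ := nonempty_inter_closedPoints (Z := (A ∪ B)ᶜ) h1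
      (hA.union hB).isClosed_compl.isLocallyClosed
    apply hy1
    by_cases hc : φ ⟨y, hy2⟩ = φ a
    · exact Or.inl (Set.mem_iUnion.2 ⟨⟨⟨y, hy2⟩, hc⟩, hxV _⟩)
    · exact Or.inr (Set.mem_iUnion.2 ⟨⟨⟨y, hy2⟩, hc⟩, hxV _⟩)
  have hdisj : ¬ (A ∩ B).Nonempty := by
    intro hne
    obtain ⟨y, hy1, hy2⟩ := nonempty_inter_closedPoints hne (hA.inter hB).isLocallyClosed
    obtain ⟨⟨x, hx⟩, hyx⟩ := Set.mem_iUnion.1 hy1.1
    obtain ⟨⟨x', hx'⟩, hyx'⟩ := Set.mem_iUnion.1 hy1.2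
    apply hx'
    rw [← hφ x' ⟨y, hy2⟩ hyx', hφ x ⟨y, hy2⟩ hyx, hx]
  by_contra hne
  apply hdisj
  have h2 := PreconnectedSpace.isPreconnected_univ (α := T) A B hA hB (by rw [hAB])
    ⟨a.1, Set.mem_univ _, Set.mem_iUnion.2 ⟨⟨a, rfl⟩, hxV _⟩⟩
    ⟨b.1, Set.mem_univ _, Set.mem_iUnion.2 ⟨⟨b, Ne.symm hne⟩, hxV _⟩⟩
  rw [Set.univ_inter] at h2
  exact h2

/-- `k`-points lift along surjections of finite type. -/
theorem exists_point_lift {k : Type u} [Field k] [IsAlgClosed k] {V U : Scheme.{u}} (h : V ⟶ U)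
    [LocallyOfFiniteType h] (y : U ⟶ Spec (CommRingCat.of k)) [LocallyOfFiniteType y]
    (b : Spec (CommRingCat.of k) ⟶ U) (hb : b ≫ y = 𝟙 _)
    (hr : b (IsLocalRing.closedPoint k) ∈ Set.range h) :
    ∃ v : Spec (CommRingCat.of k) ⟶ V, v ≫ h = b := by
  have : JacobsonSpace V := LocallyOfFiniteType.jacobsonSpace (h ≫ y)
  obtain ⟨x, hx⟩ := hr
  have hcl : IsClosed {b (IsLocalRing.closedPoint k)} := (pointEquivClosedPoint y ⟨b, hb⟩).2
  obtain ⟨v, hv1, hv2⟩ := nonempty_inter_closedPoints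
    (Z := h ⁻¹' {b (IsLocalRing.closedPoint k)}) ⟨x, hx⟩
    (hcl.preimage h.continuous).isLocallyClosed
  refine ⟨pointOfClosedPoint (h ≫ y) v hv2, ?_⟩
  refine ext_of_apply_closedPoint_eq y ?_ hb ?_
  · rw [Category.assoc, pointOfClosedPoint_comp]
  · rw [Scheme.Hom.comp_apply, pointOfClosedPoint_apply]
    exact hv1

section

variable {k : Type u} [Field k] {Z U W : Scheme.{u}}
  {z : Z ⟶ Spec (CommRingCat.of k)} {y : U ⟶ Spec (CommRingCat.of k)} {p₁ : W ⟶ Z} {p₂ : W ⟶ U}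
  (hW : IsPullback p₁ p₂ z y)

/-- The slice `Z × {a}`. -/
def slice (a : Spec (CommRingCat.of k) ⟶ U) (ha : a ≫ y = 𝟙 _) : Z ⟶ W :=
  hW.lift (𝟙 Z) (z ≫ a) (by rw [Category.id_comp, Category.assoc, ha, Category.comp_id])

theorem slice_fst (a : Spec (CommRingCat.of k) ⟶ U) (ha : a ≫ y = 𝟙 _) :
    slice hW a ha ≫ p₁ = 𝟙 Z := hW.lift_fst _ _ _

theorem slice_snd (a : Spec (CommRingCat.of k) ⟶ U) (ha : a ≫ y = 𝟙 _) :
    slice hW a ha ≫ p₂ = z ≫ a := hW.lift_snd _ _ _

theorem isPullback_slice (a : Spec (CommRingCat.of k) ⟶ U) (ha : a ≫ y = 𝟙 _) :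
    IsPullback (slice hW a ha) z p₂ a := by
  refine IsPullback.of_right ?_ (slice_snd hW a ha) hW
  rw [slice_fst, ha]
  exact IsPullback.of_horiz_isIso ⟨by rw [Category.id_comp, Category.comp_id]⟩

theorem hp_eq_zero_iff_HC {X Y : Scheme.{u}} (f : X ⟶ Y) (M : Type) [AddCommGroup M] (q : ℕ)
    (x : HH Y (EtCoh.const Y M) q) : hp f _ q x = 0 ↔ HC M f q x = 0 := by
  rw [HC_apply]
  constructor
  · intro h
    rw [h, map_zero]
  · intro h
    refine (HHmap_bijective (EtCore.pullConst f M).hom q).1 ?_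
    rw [h, map_zero]

variable [IsAlgClosed k] [IsProper z] [LocallyOfFiniteType y]

include hW in
/-- If a class dies on one slice it dies on the neighbouring slices. -/
theorem local_zero (hP : PBC.{u}) (M : Type) [AddCommGroup M]
    (hM : EtCoh.IsTorsion (EtCoh.const W M)) (q : ℕ) (D : HH W (EtCoh.const W M) q)
    (a : Spec (CommRingCat.of k) ⟶ U) (ha : a ≫ y = 𝟙 _) (hD : HC M (slice hW a ha) q D = 0) :
    ∃ V : Set U, IsOpen V ∧ a (IsLocalRing.closedPoint k) ∈ V ∧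
      ∀ (b : Spec (CommRingCat.of k) ⟶ U) (hb : b ≫ y = 𝟙 _),
        b (IsLocalRing.closedPoint k) ∈ V → HC M (slice hW b hb) q D = 0 := by
  have hp₂ : IsProper p₂ := MorphismProperty.of_isPullback (P := @IsProper) hW inferInstance
  obtain ⟨j, hj⟩ := exists_nbhd p₂ a hP y ha (isPullback_slice hW a ha) (EtCoh.const W M) hM q D
    ((hp_eq_zero_iff_HC _ M q D).2 hD)
  have hV : AlgebraicGeometry.Etale ((StrictLoc.D a).obj j).hom := ((StrictLoc.D a).obj j).prop
  refine ⟨Set.range ((StrictLoc.D a).obj j).hom, ((StrictLoc.D a).obj j).hom.isOpenMap.isOpen_range,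
    ⟨lft a j (IsLocalRing.closedPoint k), ?_⟩, ?_⟩
  · rw [← Scheme.Hom.comp_apply, lft_hom]
  · intro b hb hbV
    obtain ⟨v, hv⟩ := exists_point_lift _ y b hb hbV
    let c : Z ⟶ ((EtCoh.bc p₂).obj ((StrictLoc.D a).obj j)).left :=
      (BCCalc.isPullback_pr p₂ ((StrictLoc.D a).obj j)).lift (z ≫ v) (slice hW b hb) (by
        rw [slice_snd, Category.assoc, hv])
    have hc : c ≫ ((EtCoh.bc p₂).obj ((StrictLoc.D a).obj j)).hom = slice hW b hb :=
      (BCCalc.isPullback_pr p₂ ((StrictLoc.D a).obj j)).lift_snd _ _ _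
    rw [← hp_eq_zero_iff_HC, ← hc]
    exact hp_eq_zero_of_comp _ _ _ _ _ hj

/-- **Rigidity**: the restrictions of a class to the slices `Z × {a}` coincide. -/
theorem rigid [PreconnectedSpace U] (hP : PBC.{u}) (M : Type) [AddCommGroup M]
    (hM : EtCoh.IsTorsion (EtCoh.const W M)) (q : ℕ) (D : HH W (EtCoh.const W M) q)
    (a : Spec (CommRingCat.of k) ⟶ U) (ha : a ≫ y = 𝟙 _)
    (b : Spec (CommRingCat.of k) ⟶ U) (hb : b ≫ y = 𝟙 _) :
    HC M (slice hW a ha) q D = HC M (slice hW b hb) q D := by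
  have : JacobsonSpace U := LocallyOfFiniteType.jacobsonSpace y
  let e := pointEquivClosedPoint y
  let φ : closedPoints U → HH Z (EtCoh.const Z M) q := fun x =>
    HC M (slice hW (e.symm x).1 (e.symm x).2) q D
  have key : ∀ x y : closedPoints U, φ x = φ y := by
    refine eq_of_locally_const φ ?_
    intro x
    let a := (e.symm x).1
    have ha : a ≫ y = 𝟙 _ := (e.symm x).2
    have hx : a (IsLocalRing.closedPoint k) = x.1 := congrArg Subtype.val (e.apply_symm_apply x)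
    obtain ⟨V, hV, haV, hVb⟩ := local_zero hW hP M hM q (D - HC M p₁ q (HC M (slice hW a ha) q D))
      a ha (by
        rw [map_sub, HC_HC M (slice hW a ha) p₁ (𝟙 Z) (slice_fst hW a ha), HC_id, sub_self])
    refine ⟨V, hV, by rw [← hx]; exact haV, ?_⟩
    intro w hw
    have hb : (e.symm w).1 ≫ y = 𝟙 _ := (e.symm w).2
    have hwx : (e.symm w).1 (IsLocalRing.closedPoint k) = w.1 :=
      congrArg Subtype.val (e.apply_symm_apply w)
    have h1 := hVb _ hb (by rw [hwx]; exact hw)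
    rw [map_sub, HC_HC M (slice hW _ hb) p₁ (𝟙 Z) (slice_fst hW _ hb), HC_id, sub_eq_zero] at h1
    exact h1
  have h2 := key (e ⟨a, ha⟩) (e ⟨b, hb⟩)
  simp only [φ, Equiv.symm_apply_apply] at h2
  exact h2

end

end

end Groth.Agent.Vancyc.H687.Rigid
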