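import Groth.Agent.Vancyc.H327.Supp3

/-!
# Classes supported on a finite set of closed points: `forget` is the sum of the local contributions
-/

set_option autoImplicit false
set_option backward.isDefEq.respectTransparency false
set_option backward.isDefEq.respectTransparency.types false
universe u
open CategoryTheory CategoryTheory.Limits AlgebraicGeometry Opposite Abelian
open scoped Groth.Agent.Etcore.EtInst
open Groth.Agent.Etcore.EtInst

namespace Groth.Agent.Vancyc.H687.Add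

open Groth.Agent.Vancyc.H327

noncomputable section

variable {X : Scheme.{u}} (M : Type) [AddCommGroup M]

/-- Enlarging the support. -/
abbrev enl {O' O : X.Opens} (h : O' ≤ O) (q : ℕ) : HS M O q →+ HS M O' q :=
  HS.pull M (𝟙 X) (O' := O') (O := O) h q

theorem forget_enl {O' O : X.Opens} (h : O' ≤ O) (q : ℕ) (e : HS M O q) :
    HS.forget M O' q (enl M h q e) = HS.forget M O q e := by
  rw [HS.forget_pull, hpull_id]

/-- A class with support in `X - O` restricted to an open contained in `O` vanishes. -/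
theorem pull_eq_zero {Y : Scheme.{u}} (f : Y ⟶ X) {O' : Y.Opens} {O : X.Opens} (h : O' ≤ f ⁻¹ᵁ O)
    (h' : ∀ y : Y, f y ∈ O) (q : ℕ) (e : HS M O q) : HS.pull M f h q e = 0 := by
  have h1 : Subsingleton (HS M (f ⁻¹ᵁ O) q) := HS.subsingleton_of_top M (f ⁻¹ᵁ O) h' q
  rw [← HS.pull_comp M (𝟙 Y) f f (Category.id_comp f) (O'' := O') (O' := f ⁻¹ᵁ O) h le_rfl h q e,
    Subsingleton.elim (HS.pull M f le_rfl q e) 0, map_zero]

variable {M} in
/-- A class with support vanishes if it vanishes on two opens covering `X` and meeting outside the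
support. -/
theorem eq_zero_of_two (U V O : X.Opens) (hUV : U ⊔ V = ⊤) (hO : U ⊓ V ≤ O) (q : ℕ) (e : HS M O q)
    (hU : HS.pull M U.ι (O' := U.ι ⁻¹ᵁ O) le_rfl q e = 0)
    (hV : HS.pull M V.ι (O' := V.ι ⁻¹ᵁ O) le_rfl q e = 0) : e = 0 := by
  let W : X.Opens := U ⊓ V
  let a : (W : Scheme.{u}) ⟶ U := X.homOfLE inf_le_left
  let b : (W : Scheme.{u}) ⟶ V := X.homOfLE inf_le_right
  have haj : a ≫ U.ι = W.ι := X.homOfLE_ι _
  have hbk : b ≫ V.ι = W.ι := X.homOfLE_ι _
  have hjk : Set.range W.ι = Set.range U.ι ∩ Set.range V.ι := by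
    rw [Scheme.Opens.range_ι, Scheme.Opens.range_ι, Scheme.Opens.range_ι]
    rfl
  have hcov : Set.range U.ι ∪ Set.range V.ι = Set.univ := by
    rw [Scheme.Opens.range_ι, Scheme.Opens.range_ι]
    exact congrArg (fun t : X.Opens => (t : Set X)) hUV
  have ha : W.ι ⁻¹ᵁ O ≤ a ⁻¹ᵁ (U.ι ⁻¹ᵁ O) := by
    rw [← Scheme.Hom.comp_preimage, haj]
  have hb : W.ι ⁻¹ᵁ O ≤ b ⁻¹ᵁ (V.ι ⁻¹ᵁ O) := by
    rw [← Scheme.Hom.comp_preimage, hbk]
  have hsub : ∀ n, Subsingleton (HS M (W.ι ⁻¹ᵁ O) n) := fun n =>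
    HS.subsingleton_of_top M (W.ι ⁻¹ᵁ O) (fun x => hO x.2) n
  rcases q with _ | n
  · exact HS.eq_zero_mv_zero M U.ι V.ι W.ι a b haj hbk hjk hcov rfl rfl rfl ha hb e hU hV
  · exact HS.eq_zero_mv M U.ι V.ι W.ι a b haj hbk hjk hcov rfl rfl rfl ha hb n (hsub n) e hU hV

/-- Excision in the form used below: a class is determined on a neighbourhood of the support. -/
theorem eq_of_nbhd {Y N : Scheme.{u}} (j : N ⟶ Y) [IsOpenImmersion j] {O : Y.Opens}
    (h : ∀ y : Y, y ∉ O → y ∈ Set.range j) (q : ℕ) (e e' : HS M O q) {O' : N.Opens}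
    (hO' : O' = j ⁻¹ᵁ O) (hee : HS.pull M j hO'.le q e = HS.pull M j hO'.le q e') : e = e' :=
  (HS.pull_bijective_of_open M j hO' h q).1 hee

variable {M} in
/-- The local condition at `z` relating a class `c` with support off `O` and a class `c'` with
support off `Oz`. -/
def Agree {O Oz : X.Opens} (z : X) (q : ℕ) (c : HS M O q) (c' : HS M Oz q) : Prop :=
  ∃ (N : X.Opens) (_ : z ∈ N) (h : N.ι ⁻¹ᵁ O = N.ι ⁻¹ᵁ Oz),
    HS.pull M N.ι (O' := N.ι ⁻¹ᵁ O) le_rfl q c = HS.pull M N.ι (O' := N.ι ⁻¹ᵁ O) h.le q c'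

variable {M} in
/-- One step of the decomposition. -/
theorem exists_step {O Oz O₁ : X.Opens} (z : X) (hz : ∀ x : X, x ∉ Oz → x = z)
    (hO : O = Oz ⊓ O₁) (hcov : Oz ⊔ O₁ = ⊤) (q : ℕ) (c : HS M O q) (c' : HS M Oz q)
    (h : Agree z q c c') : ∃ c₁ : HS M O₁ q,
      c = enl M (hO.le.trans inf_le_left) q c' + enl M (hO.le.trans inf_le_right) q c₁ ∧
      HS.pull M Oz.ι (O' := Oz.ι ⁻¹ᵁ O) (by
        intro x hx
        have h1 : Oz.ι x ∈ O := hx
        rw [hO] at h1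
        exact h1.2) q c₁ = HS.pull M Oz.ι (O' := Oz.ι ⁻¹ᵁ O) le_rfl q c := by
  have hV : Oz.ι ⁻¹ᵁ O = Oz.ι ⁻¹ᵁ O₁ := by
    rw [hO]
    apply le_antisymm
    · intro x hx
      exact hx.2
    · intro x hx
      exact ⟨x.2, hx⟩
  have hexc : ∀ y : X, y ∉ O₁ → y ∈ Set.range Oz.ι := by
    intro y hy
    rw [Scheme.Opens.range_ι]
    have h1 : y ∈ Oz ⊔ O₁ := by
      rw [hcov]
      trivial
    rcases h1 with h1 | h1
    · exact h1
    · exact absurd h1 hy
  obtain ⟨c₁, hc₁⟩ := (HS.pull_bijective_of_open M Oz.ι hV hexc q).2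
    (HS.pull M Oz.ι (O' := Oz.ι ⁻¹ᵁ O) le_rfl q c)
  refine ⟨c₁, ?_, hc₁⟩
  rw [← sub_eq_zero]
  refine eq_zero_of_two O₁ Oz O (by rw [sup_comm, hcov]) (by rw [hO, inf_comm]) q _ ?_ ?_
  · -- on `O₁`
    rw [map_sub, map_add, HS.pull_comp M O₁.ι (𝟙 X) O₁.ι (Category.comp_id _) (O'' := O₁.ι ⁻¹ᵁ O)
      (O' := O) (O := Oz) le_rfl (hO.le.trans inf_le_left) (fun x hx => by
        have h1 : O₁.ι x ∈ O := hx
        rw [hO] at h1
        exact h1.1),
      HS.pull_comp M O₁.ι (𝟙 X) O₁.ι (Category.comp_id _) (O'' := O₁.ι ⁻¹ᵁ O)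
      (O' := O) (O := O₁) le_rfl (hO.le.trans inf_le_right) (fun x _ => x.2),
      pull_eq_zero M O₁.ι _ (fun x => x.2), add_zero, sub_eq_zero]
    -- excision to `N ∩ O₁`
    obtain ⟨N, hzN, hN, hcc⟩ := h
    have hNO : N ≤ O₁ := by
      intro x hx
      by_cases hxz : x ∈ Oz
      · have h1 : (⟨x, hx⟩ : N) ∈ N.ι ⁻¹ᵁ Oz := hxz
        rw [← hN] at h1
        have h2 : x ∈ O := h1
        rw [hO] at h2
        exact h2.2
      · have h1 : x ∈ Oz ⊔ O₁ := by
          rw [hcov]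
          trivial
        exact h1.resolve_left hxz
    let a : (N : Scheme.{u}) ⟶ O₁ := X.homOfLE hNO
    have ha : a ≫ O₁.ι = N.ι := X.homOfLE_ι _
    have hpre : N.ι ⁻¹ᵁ O = a ⁻¹ᵁ (O₁.ι ⁻¹ᵁ O) := by
      rw [← Scheme.Hom.comp_preimage, ha]
    refine eq_of_nbhd M a (fun y hy => ?_) q _ _ hpre ?_
    · have hy1 : O₁.ι y ∉ Oz := fun h1 => hy (by
        change O₁.ι y ∈ O
        rw [hO]
        exact ⟨h1, y.2⟩)
      have hy2 := hz _ hy1
      refine ⟨⟨z, hzN⟩, O₁.ι.isOpenEmbedding.injective ?_⟩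
      rw [hy2, ← Scheme.Hom.comp_apply, ha]
      rfl
    · rw [HS.pull_comp M a O₁.ι N.ι ha (O'' := N.ι ⁻¹ᵁ O) (O' := O₁.ι ⁻¹ᵁ O) (O := O) hpre.le le_rfl
        le_rfl, HS.pull_comp M a O₁.ι N.ι ha (O'' := N.ι ⁻¹ᵁ O) (O' := O₁.ι ⁻¹ᵁ O) (O := Oz) hpre.le _
        hN.le]
      exact hcc
  · rw [map_sub, map_add, HS.pull_comp M Oz.ι (𝟙 X) Oz.ι (Category.comp_id _) (O'' := Oz.ι ⁻¹ᵁ O)
      (O' := O) (O := Oz) le_rfl (hO.le.trans inf_le_left) (fun x _ => x.2),
      HS.pull_comp M Oz.ι (𝟙 X) Oz.ι (Category.comp_id _) (O'' := Oz.ι ⁻¹ᵁ O)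
      (O' := O) (O := O₁) le_rfl (hO.le.trans inf_le_right) hV.le,
      pull_eq_zero M Oz.ι _ (fun x => x.2), zero_add, sub_eq_zero]
    exact hc₁.symm

/-- The open complement of a finite set of closed points. -/
def cpl (F : Finset X) (hF : ∀ z ∈ F, IsClosed ({z} : Set X)) : X.Opens :=
  ⟨(F : Set X)ᶜ, by
    rw [isOpen_compl_iff, ← Set.biUnion_of_singleton (F : Set X)]
    exact F.finite_toSet.isClosed_biUnion fun z hz => hF z hz⟩

variable {M} in
/-- **Additivity.** -/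
theorem forget_eq_sum (q : ℕ) (F : Finset X) : ∀ (O : X.Opens) (_ : (O : Set X) = (F : Set X)ᶜ)
    (c : HS M O q) (Oz : X → X.Opens) (_ : ∀ z ∈ F, (Oz z : Set X) = {z}ᶜ)
    (cz : ∀ z, HS M (Oz z) q) (_ : ∀ z ∈ F, Agree z q c (cz z)),
    HS.forget M O q c = ∑ z ∈ F, HS.forget M (Oz z) q (cz z) := by
  classical
  induction F using Finset.induction_on with
  | empty =>
    intro O hO c Oz _ cz _
    have h1 : Subsingleton (HS M O q) := HS.subsingleton_of_top M O (fun x => by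
      have : x ∈ (O : Set X) := by
        rw [hO]
        simp
      exact this) q
    rw [Subsingleton.elim c 0, map_zero, Finset.sum_empty]
  | insert z F hzF ih =>
    intro O hO c Oz hOz cz hc
    have hOzz := hOz z (Finset.mem_insert_self z F)
    have hz : ∀ x : X, x ∉ Oz z → x = z := by
      intro x hx
      by_contra hne
      exact hx (by
        change x ∈ (Oz z : Set X)
        rw [hOzz]
        exact hne)
    -- the complement of `F`
    let O₁ : X.Opens := ⟨(F : Set X)ᶜ, by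
      have h1 : IsClosed (F : Set X) := by
        rw [← Set.biUnion_of_singleton (F : Set X)]
        refine F.finite_toSet.isClosed_biUnion fun w hw => ?_
        have h2 := (Oz w).isOpen.isClosed_compl
        rw [hOz w (Finset.mem_insert_of_mem hw), compl_compl] at h2
        exact h2
      exact h1.isOpen_compl⟩
    have hO' : O = Oz z ⊓ O₁ := by
      apply TopologicalSpace.Opens.ext
      change (O : Set X) = (Oz z : Set X) ∩ (F : Set X)ᶜ
      rw [hO, hOzz, Finset.coe_insert, Set.insert_eq, Set.compl_union]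
    have hcov : Oz z ⊔ O₁ = ⊤ := by
      apply TopologicalSpace.Opens.ext
      change (Oz z : Set X) ∪ (F : Set X)ᶜ = Set.univ
      rw [hOzz, ← Set.compl_inter, Set.compl_univ_iff]
      ext x
      simp only [Set.mem_inter_iff, Set.mem_singleton_iff, Finset.mem_coe, Set.mem_empty_iff_false,
        iff_false, not_and]
      rintro rfl
      exact hzF
    obtain ⟨c₁, hc₁, hc₂⟩ := exists_step z hz hO' hcov q c (cz z) (hc z (Finset.mem_insert_self z F))
    rw [Finset.sum_insert hzF, hc₁, map_add, forget_enl, forget_enl]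
    congr 1
    refine ih O₁ rfl c₁ Oz (fun w hw => hOz w (Finset.mem_insert_of_mem hw)) cz fun w hw => ?_
    obtain ⟨N, hwN, hN, hcc⟩ := hc w (Finset.mem_insert_of_mem hw)
    have hwz : w ≠ z := fun h => hzF (h ▸ hw)
    -- `N` is contained in `Oz z`
    have hNz : N ≤ Oz z := by
      intro x hx
      by_contra hxz
      have h1 := hz x hxz
      subst h1
      have h2 : (⟨x, hx⟩ : N) ∈ N.ι ⁻¹ᵁ Oz w := by
        change x ∈ (Oz w : Set X)
        rw [hOz w (Finset.mem_insert_of_mem hw)]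
        exact Ne.symm hwz
      rw [← hN] at h2
      have h3 : x ∈ (O : Set X) := h2
      rw [hO] at h3
      exact h3 (Finset.mem_coe.2 (Finset.mem_insert_self x F))
    have hN1 : N.ι ⁻¹ᵁ O = N.ι ⁻¹ᵁ O₁ := by
      rw [hO']
      apply le_antisymm
      · intro x hx
        exact hx.2
      · intro x hx
        exact ⟨hNz x.2, hx⟩
    refine ⟨N, hwN, hN1.symm.trans hN, ?_⟩
    let a : (N : Scheme.{u}) ⟶ Oz z := X.homOfLE hNz
    have ha : a ≫ (Oz z).ι = N.ι := X.homOfLE_ι _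
    have h1 := congrArg (HS.pull M a (O' := N.ι ⁻¹ᵁ O) (O := (Oz z).ι ⁻¹ᵁ O) (by
      rw [← Scheme.Hom.comp_preimage, ha]) q) hc₂
    rw [HS.pull_comp M a (Oz z).ι N.ι ha _ _ hN1.le, HS.pull_comp M a (Oz z).ι N.ι ha _ _ le_rfl,
      hcc] at h1
    have h2 := congrArg (HS.pull M (𝟙 (N : Scheme.{u})) (O' := N.ι ⁻¹ᵁ O₁) (O := N.ι ⁻¹ᵁ O)
      hN1.symm.le q) h1
    rw [HS.pull_comp M (𝟙 (N : Scheme.{u})) N.ι N.ι (Category.id_comp _) _ _ le_rfl,
      HS.pull_comp M (𝟙 (N : Scheme.{u})) N.ι N.ι (Category.id_comp _) _ _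
        (hN1.symm.trans hN).le] at h2
    exact h2

end

end Groth.Agent.Vancyc.H687.Add
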