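import Groth.Agent.Vancyc.H687.Main
import Groth.Agent.Vancyc.H687.VPull
import Groth.Agent.Vancyc.H691.ZeroSch
import Groth.Agent.Vancyc.H120.VBundleAcyc
import Groth.Agent.Krr.H495.Rank
import Groth.Agent.Krr.H482.PullLambda
import Groth.Agent.Ega2.QCohLocal
import Groth.Agent.Fdesc.LocGen

/-!
# The Euler class of a vector bundle of top rank on a proper scheme (étale half of (B3), S4009)

* `eul_pull_iso`, `eul_iso`;
* `eul_eq_card`: a section with simple zeros;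
* `eul_eq`: `e(G) = c • [pt]` if `c` is the number modulo `n` of the simple zeros of a section of a twist by an `n`-th
  power on a modification.
-/

set_option autoImplicit false
set_option backward.isDefEq.respectTransparency false
set_option backward.isDefEq.respectTransparency.types false
universe u
open CategoryTheory CategoryTheory.Limits AlgebraicGeometry Opposite Abelian
open scoped Groth.Agent.Etcore.EtInst
open Groth.Agent.Etcore.EtInst

namespace Groth.Agent.Vancyc.H687.B3Et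

open Groth.Agent.Vancyc.H327 Groth.Agent.CohqB.AlgSym Main
open Groth.Agent.Vancyc.H691.Cone (zero zero_toX)
open Groth.Agent.Vancyc.H691.ZeroSch (sec sec_toX)
open Groth.Agent.Vancyc.H326.ChiLam (zeroIdeal IsSimpleZero isFinLocFree_of_rank)

noncomputable section

variable {k : Type u} [Field k] {m n : ℕ}

section Pull

variable {Z : Scheme.{u}} [IsLocallyNoetherian Z] [CompactSpace Z]
  (x : Z ⟶ Spec (CommRingCat.of k)) {G : Z.Modules} (hG : Coh.IsQCoh G)
  (h : FlatMod.IsFinLocFreeOfRank m G) (hn : (n : k) ≠ 0)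
  (κ : HS (ZMod n) (O0 k m) (2 * m))

theorem eul_pull_iso {Z' : Scheme.{u}} [IsLocallyNoetherian Z'] [CompactSpace Z']
    {x' : Z' ⟶ Spec (CommRingCat.of k)} {G' : Z'.Modules} (hG' : Coh.IsQCoh G')
    (h' : FlatMod.IsFinLocFreeOfRank m G') (g : Z' ⟶ Z) (hg : g ≫ x = x')
    (e : (Scheme.Modules.pullback g).obj G ≅ G') :
    hpull (ZMod n) g (2 * m) (eul x hG h hn κ) = eul x' hG' h' hn κ := by
  obtain ⟨b, hb, w⟩ := VPull.exists_map g hG hG' e
  exact eul_pull x hG h hn κ hG' h' g hg b hb w.flip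

theorem eul_iso {G' : Z.Modules} (hG' : Coh.IsQCoh G') (h' : FlatMod.IsFinLocFreeOfRank m G')
    (e : G ≅ G') : eul x hG h hn κ = eul x hG' h' hn κ := by
  have h1 := eul_pull_iso x hG h hn κ hG' h' (𝟙 Z) (Category.id_comp x)
    ((Scheme.Modules.pullbackId Z).app G ≪≫ e)
  rwa [hpull_id] at h1

end Pull

theorem isUnit_natCast {Z : Scheme.{u}} (x : Z ⟶ Spec (CommRingCat.of k)) (hn : (n : k) ≠ 0) :
    IsUnit (n : Γ(Z, ⊤)) := by
  have h1 : IsUnit ((n : k)) := isUnit_iff_ne_zero.2 hn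
  have h2 := h1.map (x.appTop.hom.comp (Scheme.ΓSpecIso (CommRingCat.of k)).inv.hom)
  rwa [map_natCast] at h2

section Zeros

variable {Z U : Scheme.{u}} (a : Z ⟶ Spec (CommRingCat.of k)) [IsSeparated a]
  [LocallyOfFiniteType a] [IsLocallyNoetherian Z] [CompactSpace Z] (j : U ⟶ Z)
  [IsOpenImmersion j] [SmoothOfRelativeDimension m (j ≫ a)] (hn : (n : k) ≠ 0)
  {G : Z.Modules} (hG : Coh.IsQCoh G) (h : FlatMod.IsFinLocFreeOfRank m G)
  (κ : HS (ZMod n) (O0 k m) (2 * m))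

/-- The Euler class in terms of a section with simple zeros. -/
theorem eul_eq_card [IsAlgClosed k] (t : G ⟶ Coh.structureModule Z) (F : Finset Z)
    (on : ∀ z ∈ F, z ∈ Set.range j ∧ IsClosed ({z} : Set Z) ∧
      zeroIdeal t z = IsLocalRing.maximalIdeal (Z.presheaf.stalk z))
    (off : ∀ z : Z, z ∉ F → zeroIdeal t z = ⊤)
    (c : HC (ZMod n) Z (2 * m))
    (hc : ∀ (z : Spec (CommRingCat.of k) ⟶ Z) [IsClosedImmersion z] (_ : z ≫ a = 𝟙 _)
      (_ : Set.range z ⊆ Set.range j) (O : Z.Opens) (h : LCI a z O m n), cyc h κ = c) :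
    eul a hG h hn κ = F.card • c := by
  have := isLocallyNoetherian_V hG h
  have := compactSpace_V hG
  rw [← eul_section a hG h hn κ (H120.VBundle.acyc hG h (isUnit_natCast a hn)) (sec hG t)
    (sec_toX hG t)]
  refine hpull_cyc_eq a j hn (lci_zero hG a h hn) κ (sec hG t)
    (by rw [← Category.assoc, sec_toX, Category.id_comp]) F
    (fun z hz => H691.ZeroSch.notMem_range hG t z (off z hz)) (fun z hz => ?_) c hc
  obtain ⟨h1, h2, h3⟩ := on z hz
  refine ⟨h1, h2, fun i _ _ hi => ?_⟩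
  obtain ⟨N, -, -, i', hi', w⟩ := H691.ZeroSch.exists_isPullback hG t i z hi h3
  exact ⟨N, i', hi', w⟩

end Zeros

section Final

variable (k m n) in
/-- (T): invariance of the Euler class under twists by `n`-th powers. -/
def TwistInv (hn : (n : k) ≠ 0) (κ : HS (ZMod n) (O0 k m) (2 * m)) : Prop :=
  ∀ {Z : Scheme.{u}} [IsLocallyNoetherian Z] [CompactSpace Z] (x : Z ⟶ Spec (CommRingCat.of k))
    [IsSeparated x] [LocallyOfFiniteType x]
    {G : Z.Modules} (hG : Coh.IsQCoh G) (h : FlatMod.IsFinLocFreeOfRank m G) (B : Z.Modules)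
    (_ : PicF.IsInvertible B) (hE : Coh.IsQCoh (CohB1.tensorMod G (CohB1.tensorPow B n)))
    (hE' : FlatMod.IsFinLocFreeOfRank m (CohB1.tensorMod G (CohB1.tensorPow B n))),
    eul x hE hE' hn κ = eul x hG h hn κ

variable (k m n) in
/-- Rank one at the points. -/
def RankOne (κ : HS (ZMod n) (O0 k m) (2 * m)) : Prop :=
  ∀ {Z : Scheme.{u}} [IsLocallyNoetherian Z] [CompactSpace Z] (a : Z ⟶ Spec (CommRingCat.of k))
    [IsSeparated a] [LocallyOfFiniteType a] {U : Scheme.{u}} (j : U ⟶ Z) [IsOpenImmersion j]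
    [SmoothOfRelativeDimension m (j ≫ a)]
    (z : Spec (CommRingCat.of k) ⟶ Z) [IsClosedImmersion z] (_ : z ≫ a = 𝟙 _)
    (_ : Set.range z ⊆ Set.range j) (O : Z.Opens) (h : LCI a z O m n)
    (y : HS (ZMod n) O (2 * m)), ∃ r : ℤ, y = r • fc h κ

/-- The output of the coherent half of (B3). -/
def B3Data {Y : Scheme.{u}} (a : Y ⟶ Spec (CommRingCat.of k)) (m n : ℕ) (G : Y.Modules) (c : ℤ) :
    Prop :=
  ∃ (Z' : Scheme.{u}) (a' : Z' ⟶ Spec (CommRingCat.of k)) (g : Z' ⟶ Y) (U : Y.Opens)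
    (B : Z'.Modules) (t : CohB1.tensorMod ((Scheme.Modules.pullback g).obj G) (CohB1.tensorPow B n) ⟶
      Coh.structureModule Z') (F : Finset Z'),
    IsIntegral Z' ∧ IsProper a' ∧ g ≫ a = a' ∧ IsProper g ∧ (U : Set Y).Nonempty ∧
      IsIso (g ∣_ U) ∧ topologicalKrullDim Z' = m ∧ PicF.IsInvertible B ∧
      (∀ z ∈ F, IsClosed ({z} : Set Z') ∧ IsSimpleZero t z) ∧ (∀ z ∉ F, zeroIdeal t z = ⊤) ∧
      (n : ℤ) ∣ (F.card : ℤ) - c

theorem smul_eq_of_dvd {A : Type*} [AddCommGroup A] (hA : ∀ x : A, n • x = 0) {r s : ℤ}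
    (h : (n : ℤ) ∣ r - s) (x : A) : r • x = s • x := by
  obtain ⟨q, hq⟩ := h
  rw [← sub_eq_zero, ← sub_smul, hq, mul_comm, mul_smul, natCast_zsmul, hA, smul_zero]

theorem isInvertible_tensorPow {Z : Scheme.{u}} {B : Z.Modules} (hB : PicF.IsInvertible B) (n : ℕ) :
    FlatMod.IsFinLocFreeOfRank 1 (CohB1.tensorPow B n) :=
  Ega2.QCohLocal.isFinLocFreeOfRank_one_iff.2 (Groth.Agent.Fdesc.LocGen.isInvertible_tensorPow hB n)

/-- **The étale half of (B3).** -/
theorem eul_eq [IsAlgClosed k] (hn : (n : k) ≠ 0) (hC : TopH.HCd.{u} k) (hD : TopH.HDual.{u} k n)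
    (hP : LocZero.PBC.{u}) (κ : HS (ZMod n) (O0 k m) (2 * m)) (hκ : RankOne k m n κ)
    (hT : TwistInv k m n hn κ) {Y : Scheme.{u}} (a : Y ⟶ Spec (CommRingCat.of k)) [IsProper a]
    [IsLocallyNoetherian Y] [CompactSpace Y] [IsIntegral Y] [SmoothOfRelativeDimension m a]
    (hm : topologicalKrullDim Y = m) {G : Y.Modules} (hG : Coh.IsQCoh G)
    (h : FlatMod.IsFinLocFreeOfRank m G) (c : ℤ) (H : B3Data a m n G c)
    (y : Spec (CommRingCat.of k) ⟶ Y) [IsClosedImmersion y] (hy : y ≫ a = 𝟙 _) {O : Y.Opens}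
    (L : LCI a y O m n) : eul a hG h hn κ = c • cyc L κ := by
  obtain ⟨Z', a', g, U, B, t, F, hZ', ha', hga, hg, hU, hiso, hm', hB, hF, hF', hc⟩ := H
  have hn0 := pos_of_ne hn
  have hNZ : IsLocallyNoetherian Z' := noeth a'
  have hCZ : CompactSpace Z' := compact a'
  -- the smooth locus of `Z'`
  have hsm := Geo.smooth_smoothLocus a'
  have hsr : SmoothOfRelativeDimension m (a'.smoothLocus.ι ≫ a') :=
    Geo.smoothOfRelativeDimension a' a'.smoothLocus.ι m hm'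
  have hne : (a'.smoothLocus : Set Z').Nonempty := Geo.nonempty_smoothLocus a'
  have hNe : Nonempty a'.smoothLocus := hne.to_subtype
  have hirr : IrreducibleSpace a'.smoothLocus := TopH.irreducibleSpace_of_open a'.smoothLocus.ι
  -- a point of `Z'`
  obtain ⟨z₀, hz₀⟩ : ((a'.smoothLocus ⊓ g ⁻¹ᵁ U : Z'.Opens) : Set Z').Nonempty := by
    have h1 : ((g ⁻¹ᵁ U : Z'.Opens) : Set Z').Nonempty := by
      obtain ⟨u, hu⟩ := hU
      obtain ⟨w, -⟩ := (g ∣_ U).surjective ⟨u, hu⟩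
      exact ⟨w.1, w.2⟩
    exact nonempty_preirreducible_inter a'.smoothLocus.isOpen (g ⁻¹ᵁ U).isOpen hne h1
  obtain ⟨y', hy', hy'r⟩ := exists_point_of_open a' (a'.smoothLocus ⊓ g ⁻¹ᵁ U) ⟨z₀, hz₀⟩
  have hy'c : IsClosedImmersion y' := Charts.isClosedImmersion_point a' _ hy'
  have hy's : Set.range y' ⊆ Set.range a'.smoothLocus.ι := by
    rw [Scheme.Opens.range_ι]
    exact fun w hw => (hy'r hw).1
  let L' : LCI a' y' ⟨(Set.range y')ᶜ, y'.isClosedEmbedding.isClosed_range.isOpen_compl⟩ m n :=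
    lci_point a' a'.smoothLocus.ι m n hn y' hy' hy's _ rfl
  -- its image
  have hy₁ : (y' ≫ g) ≫ a = 𝟙 _ := by rw [Category.assoc, hga, hy']
  have hy₁c : IsClosedImmersion (y' ≫ g) := Charts.isClosedImmersion_point a _ hy₁
  have hsY : SmoothOfRelativeDimension m (𝟙 Y ≫ a) := by
    rw [Category.id_comp]
    infer_instance
  let L₁ : LCI a (y' ≫ g) ⟨(Set.range (y' ≫ g))ᶜ,
      (y' ≫ g).isClosedEmbedding.isClosed_range.isOpen_compl⟩ m n :=
    lci_point a (𝟙 Y) m n hn (y' ≫ g) hy₁ (fun w _ => ⟨w, rfl⟩) _ rfl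
  have e1 : cyc L κ = cyc L₁ κ :=
    cyc_point_eq a (𝟙 Y) m n hn hP y (y' ≫ g) hy hy₁ (fun w _ => ⟨w, rfl⟩) (fun w _ => ⟨w, rfl⟩)
      L L₁ κ
  -- the Euler class on `Y`
  obtain ⟨r, hr⟩ := exists_smul_cyc a (𝟙 Y) m n hm hn hC hD κ (y' ≫ g) (fun w _ => ⟨w, rfl⟩) L₁
    (hκ a (𝟙 Y) (y' ≫ g) hy₁ (fun w _ => ⟨w, rfl⟩) _ L₁) (eul a hG h hn κ)
  -- the Euler class on `Z'`
  have hG'r : FlatMod.IsFinLocFreeOfRank m ((Scheme.Modules.pullback g).obj G) :=
    Krr.H482.PullLambda.isFinLocFreeOfRank_pullback g h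
  have hG' : Coh.IsQCoh ((Scheme.Modules.pullback g).obj G) :=
    Ega2.QCohLocal.isQCoh_of_isFinLocFree (isFinLocFree_of_rank hG'r)
  have hEr : FlatMod.IsFinLocFreeOfRank m (CohB1.tensorMod ((Scheme.Modules.pullback g).obj G)
      (CohB1.tensorPow B n)) := by
    have := Krr.H495.Rank.rank_tensor hG'r (isInvertible_tensorPow hB n)
    rwa [mul_one] at this
  have hE : Coh.IsQCoh (CohB1.tensorMod ((Scheme.Modules.pullback g).obj G)
      (CohB1.tensorPow B n)) := Ega2.QCohLocal.isQCoh_of_isFinLocFree (isFinLocFree_of_rank hEr)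
  have e2 : hpull (ZMod n) g (2 * m) (eul a hG h hn κ) = eul a' hG' hG'r hn κ :=
    eul_pull_iso a hG h hn κ hG' hG'r g hga (Iso.refl _)
  have e3 : eul a' hE hEr hn κ = eul a' hG' hG'r hn κ := hT a' hG' hG'r B hB hE hEr
  have e4 : eul a' hE hEr hn κ = F.card • cyc L' κ := by
    refine eul_eq_card a' a'.smoothLocus.ι hn hE hEr κ t F (fun z hz => ?_) hF' (cyc L' κ) ?_
    · obtain ⟨h1, h2, h3⟩ := hF z hz
      refine ⟨?_, h1, h3⟩
      rw [Scheme.Opens.range_ι]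
      exact (Geo.mem_smoothLocus_iff a' z).2 h2
    · intro z _ hz hzj O h
      exact cyc_point_eq a' a'.smoothLocus.ι m n hn hP z y' hz hy' hzj hy's h L' κ
  have e5 : hpull (ZMod n) g (2 * m) (cyc L₁ κ) = cyc L' κ :=
    hpull_cyc_of_isIso g hga U rfl (by
      rintro _ ⟨w, rfl⟩
      exact (hy'r ⟨w, rfl⟩).2) L₁ L' κ
  obtain ⟨I, hI⟩ := exists_int_point a' a'.smoothLocus.ι m n hm' hn hC hD κ y' hy's L'
    (hκ a' a'.smoothLocus.ι y' hy' hy's _ L')
  have e6 : (r : ZMod n) = (F.card : ZMod n) := by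
    have h1 := congrArg I (e2.trans (e3.symm.trans e4))
    rw [hr, map_zsmul, e5, map_zsmul, map_nsmul, hI, zsmul_one, nsmul_one] at h1
    exact h1
  have e7 : (n : ℤ) ∣ r - c := by
    have h1 : (n : ℤ) ∣ r - F.card := by
      rw [← ZMod.intCast_zmod_eq_zero_iff_dvd]
      push_cast
      rw [e6, sub_self]
    have h2 := dvd_add h1 hc
    rwa [sub_add_sub_cancel] at h2
  obtain ⟨e⟩ := TopH.nonempty_equiv a (𝟙 Y) m hm n hn0 hC hD
  let e' : HC (ZMod n) Y (2 * m) ≃+ ZMod n := e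
  rw [hr, e1]
  refine smul_eq_of_dvd (fun w => e'.injective ?_) e7 _
  rw [map_nsmul, map_zero, nsmul_eq_mul, ZMod.natCast_self, zero_mul]

end Final

end

end Groth.Agent.Vancyc.H687.B3Et
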