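import Mathlib.AlgebraicGeometry.AlgClosed.Basic
import Mathlib.AlgebraicGeometry.Morphisms.Proper

/-!
# Cartesian squares used for the classes of points (S4009)

* `isPullback_graph`: the slice `Z × {u}` meets the graph `U ⟶ Z ×_k U` in the point `u`;
* `graph`, `isClosedImmersion_graph`, `graph_eq`: the graph of an open immersion `U ⟶ Z`;
* `isPullback_birational`: the fibre of a birational morphism over a point of the isomorphism locus;
* `isPullback_mono`: a point and an open neighbourhood;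
* `range_of_isPullback`, `preimage_eq`.
-/

set_option autoImplicit false
universe u
open CategoryTheory CategoryTheory.Limits AlgebraicGeometry

namespace Groth.Agent.Vancyc.H687.Squares

/-- `Γ : U ⟶ W = Z × U` a section of the second projection, `s : Z ⟶ W` the slice at `u`. -/
theorem isPullback_graph {K U Z W : Scheme.{u}} {p₂ : W ⟶ U} {Γ : U ⟶ W} (hΓ : Γ ≫ p₂ = 𝟙 U)
    {z : Z ⟶ K} {u : K ⟶ U} {s : Z ⟶ W} (hs : IsPullback s z p₂ u) {v : K ⟶ Z} (hv : v ≫ z = 𝟙 K)
    (hvs : v ≫ s = u ≫ Γ) : IsPullback v u s Γ := by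
  refine IsPullback.of_right (h₁₂ := z) (h₂₂ := p₂) (v₁₃ := u) ?_ hvs hs.flip
  rw [hv, hΓ]
  exact IsPullback.of_horiz_isIso ⟨by simp⟩

/-- A point of `X` and an open subscheme containing it (or any monomorphism). -/
theorem isPullback_mono {K N X : Scheme.{u}} (z' : K ⟶ N) (j : N ⟶ X) [Mono j] {z : K ⟶ X}
    (h : z' ≫ j = z) : IsPullback z' (𝟙 K) j z := by
  subst h
  refine IsPullback.of_isLimit' ⟨by simp⟩ (PullbackCone.IsLimit.mk _ (fun s => s.snd)
    (fun s => ?_) (fun s => by simp) (fun s m _ h2 => by simpa using h2))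
  rw [← cancel_mono j, Category.assoc, s.condition]

/-- The fibre of `g` over a point `z` of an open `W` over which `g` is an isomorphism. -/
theorem isPullback_of_isIso {K Z' Z : Scheme.{u}} (g : Z' ⟶ Z) (W : Z.Opens) [IsIso (g ∣_ W)]
    (z' : K ⟶ Z') {z : K ⟶ Z} (h : z' ≫ g = z) (w : K ⟶ W) (hw : w ≫ W.ι = z) :
    IsPullback z' (𝟙 K) g z := by
  have h1 : IsPullback (g ⁻¹ᵁ W).ι (g ∣_ W) g W.ι := (isPullback_morphismRestrict g W).flip
  let w' : K ⟶ g ⁻¹ᵁ W := h1.lift z' w (by rw [h, hw])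
  have h2 : w' ≫ (g ⁻¹ᵁ W).ι = z' := h1.lift_fst _ _ _
  have h3 : w' ≫ (g ∣_ W) = w := h1.lift_snd _ _ _
  have h4 : IsPullback w' (𝟙 K) (g ∣_ W) w := IsPullback.of_vert_isIso ⟨by simp [h3]⟩
  have h5 := h4.flip.paste_vert h1.flip
  rw [h2, hw] at h5
  exact h5.flip

theorem range_of_isPullback {K X Y Z : Scheme.{u}} {a : K ⟶ X} {b : K ⟶ Y} {f : X ⟶ Z} {g : Y ⟶ Z}
    (h : IsPullback a b f g) : Set.range b = g ⁻¹' Set.range f := by
  rw [← Scheme.Pullback.range_snd f g, ← h.isoPullback_hom_snd]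
  have h1 : Function.Surjective h.isoPullback.hom := h.isoPullback.hom.surjective
  ext y
  constructor
  · rintro ⟨x, rfl⟩
    exact ⟨h.isoPullback.hom x, by rw [Scheme.Hom.comp_apply]⟩
  · rintro ⟨x, rfl⟩
    obtain ⟨x, rfl⟩ := h1 x
    exact ⟨x, by rw [Scheme.Hom.comp_apply]⟩

theorem preimage_eq {X X' Z Z' : Scheme.{u}} {i : Z ⟶ X} {O : X.Opens} {g : X' ⟶ X} {i' : Z' ⟶ X'}
    {O' : X'.Opens} {g' : Z' ⟶ Z} (w : IsPullback g' i' i g) (hO : (O : Set X) = (Set.range i)ᶜ)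
    (hO' : (O' : Set X') = (Set.range i')ᶜ) : O' = g ⁻¹ᵁ O := by
  apply TopologicalSpace.Opens.ext
  rw [hO', range_of_isPullback w]
  change _ = g ⁻¹' (O : Set X)
  rw [hO]
  rfl

end Groth.Agent.Vancyc.H687.Squares
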