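import Groth.Agent.Vancyc.H120.PairChart
import Groth.Agent.Vancyc.H687.Squares

/-!
# Charts of points and graphs (S4009)

`Z` separated over `k`, `j : U ⟶ Z` open, `U` smooth of relative dimension `m`:
* `exists_chart_point`: a `k`-point of `U` as a point of `Z`;
* `graph`, `exists_chart_graph`: the graph `U ⟶ Z × U` of `j`.
-/

set_option autoImplicit false
universe u
open CategoryTheory CategoryTheory.Limits AlgebraicGeometry

namespace Groth.Agent.Vancyc.H687.Charts

open Groth.Agent.Sga4h.H13 Groth.Agent.Vancyc.H120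

section General

variable {k : Type u} [Field k] {X X0 S Z : Scheme.{u}} (x : X ⟶ Spec (CommRingCat.of k))
  (h : X0 ⟶ X) [IsOpenImmersion h] (f : X0 ⟶ S) (s : S ⟶ Spec (CommRingCat.of k))
  (hs : f ≫ s = h ≫ x) (i0 : Z ⟶ X0) (i : Z ⟶ X) (hi : i0 ≫ h = i) [IsClosedImmersion i0]
  [IsClosedImmersion i] (r m : ℕ)

include hs hi in
/-- Flat charts near `Z` when only an open neighbourhood `X0` of `Z` in `X` is smooth. -/
theorem exists_chart [SmoothOfRelativeDimension (r + m) f] [SmoothOfRelativeDimension r (i0 ≫ f)]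
    (z : Z) : ∃ (U : X.Opens) (Φ : U.toScheme ⟶ Aff k m), IsAffineOpen U ∧ i z ∈ U ∧
      Φ ≫ Aff.str k m = U.ι ≫ x ∧ (origin k m).ker.comap Φ = i.ker.comap U.ι ∧ Flat Φ := by
  obtain ⟨C, D, _, _, j, _, ψ, κ, φ, h1, h2, h3, h4, h5, h6⟩ :=
    PairChart.exists_data (h ≫ x) f s hs i0 r m z
  have h7 : IsPullback (Spec.map (CommRingCat.ofHom ψ)) κ (j ≫ h) i := by
    have h8 := h3.paste_vert (Squares.isPullback_mono i0 h hi)
    rwa [Category.comp_id] at h8
  obtain ⟨Φ, e1, e2, e3⟩ := AffChart.exists_chart x i (j ≫ h) ψ h2 κ h7 φ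
    (by rw [h4, Category.assoc]) h5
  refine ⟨(j ≫ h).opensRange, Φ, isAffineOpen_opensRange (j ≫ h), ?_, e1, e2, e3 h6⟩
  obtain ⟨p, hp⟩ := h1
  exact ⟨p, by rw [Scheme.Hom.comp_apply, hp, ← Scheme.Hom.comp_apply, hi]⟩

end General

section Point

variable {k : Type u} [Field k] {Z U : Scheme.{u}} (a : Z ⟶ Spec (CommRingCat.of k)) [IsSeparated a]
  (j : U ⟶ Z) [IsOpenImmersion j]

include a in
theorem isClosedImmersion_point (z : Spec (CommRingCat.of k) ⟶ Z) (hz : z ≫ a = 𝟙 _) :
    IsClosedImmersion z := by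
  have : IsClosedImmersion (z ≫ a) := by
    rw [hz]
    infer_instance
  exact IsClosedImmersion.of_comp z a

variable (m : ℕ) [SmoothOfRelativeDimension m (j ≫ a)]

theorem exists_chart_point (z : Spec (CommRingCat.of k) ⟶ U) (hz : z ≫ j ≫ a = 𝟙 _)
    (t : Spec (CommRingCat.of k)) :
    ∃ (V : Z.Opens) (Φ : V.toScheme ⟶ Aff k m), IsAffineOpen V ∧ (z ≫ j) t ∈ V ∧
      Φ ≫ Aff.str k m = V.ι ≫ a ∧ (origin k m).ker.comap Φ = (z ≫ j).ker.comap V.ι ∧ Flat Φ := by
  have h1 : IsClosedImmersion (z ≫ j) := isClosedImmersion_point a _ (by rw [Category.assoc, hz])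
  have h2 : IsClosedImmersion z := isClosedImmersion_point (j ≫ a) _ hz
  have h3 : SmoothOfRelativeDimension (0 + m) (j ≫ a) := by
    rw [zero_add]
    infer_instance
  have h4 : SmoothOfRelativeDimension 0 (z ≫ j ≫ a) := by
    rw [hz]
    infer_instance
  exact exists_chart a j (j ≫ a) (𝟙 _) (Category.comp_id _) z (z ≫ j) rfl 0 m t

end Point

section Graph

variable {k : Type u} [Field k] {Z U W : Scheme.{u}} {a : Z ⟶ Spec (CommRingCat.of k)}
  {j : U ⟶ Z} {p₁ : W ⟶ Z} {p₂ : W ⟶ U} (hW : IsPullback p₁ p₂ a (j ≫ a))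

/-- The graph of `j`. -/
noncomputable def graph : U ⟶ W := hW.lift j (𝟙 U) (by rw [Category.id_comp])

theorem graph_fst : graph hW ≫ p₁ = j := hW.lift_fst _ _ _

theorem graph_snd : graph hW ≫ p₂ = 𝟙 U := hW.lift_snd _ _ _

/-- `U × U ⟶ Z × U`. -/
noncomputable def opn : pullback (j ≫ a) (j ≫ a) ⟶ W :=
  hW.lift (pullback.fst _ _ ≫ j) (pullback.snd _ _) (by
    rw [Category.assoc, pullback.condition])

theorem opn_fst : opn hW ≫ p₁ = pullback.fst _ _ ≫ j := hW.lift_fst _ _ _

theorem opn_snd : opn hW ≫ p₂ = pullback.snd _ _ := hW.lift_snd _ _ _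

theorem isPullback_opn : IsPullback (opn hW) (pullback.fst (j ≫ a) (j ≫ a)) p₁ j := by
  refine IsPullback.of_right (h₁₂ := p₂) (h₂₂ := a) (v₁₃ := j ≫ a) ?_ (opn_fst hW) hW.flip
  rw [opn_snd]
  exact (IsPullback.of_hasPullback (j ≫ a) (j ≫ a)).flip

theorem isOpenImmersion_opn [IsOpenImmersion j] : IsOpenImmersion (opn hW) :=
  MorphismProperty.of_isPullback (P := @IsOpenImmersion) (isPullback_opn hW).flip inferInstance

theorem diagonal_opn : pullback.diagonal (j ≫ a) ≫ opn hW = graph hW := by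
  apply hW.hom_ext
  · rw [Category.assoc, opn_fst, pullback.diagonal_fst_assoc, graph_fst]
  · rw [Category.assoc, opn_snd, pullback.diagonal_snd, graph_snd]

theorem isClosedImmersion_graph [IsSeparated a] : IsClosedImmersion (graph hW) := by
  have h1 : IsSeparated p₂ := MorphismProperty.of_isPullback (P := @IsSeparated) hW inferInstance
  have : IsClosedImmersion (graph hW ≫ p₂) := by
    rw [graph_snd]
    infer_instance
  exact IsClosedImmersion.of_comp (graph hW) p₂

theorem exists_chart_graph [IsSeparated a] [IsOpenImmersion j] (m : ℕ)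
    [SmoothOfRelativeDimension m (j ≫ a)] (t : U) :
    ∃ (V : W.Opens) (Φ : V.toScheme ⟶ Aff k m), IsAffineOpen V ∧ graph hW t ∈ V ∧
      Φ ≫ Aff.str k m = V.ι ≫ p₂ ≫ j ≫ a ∧ (origin k m).ker.comap Φ = (graph hW).ker.comap V.ι ∧
      Flat Φ := by
  have h1 := isClosedImmersion_graph hW
  have h2 := isOpenImmersion_opn hW
  have h3 : SmoothOfRelativeDimension (0 + m) (pullback.snd (j ≫ a) (j ≫ a)) := by
    rw [zero_add]
    have := smoothOfRelativeDimension_isStableUnderBaseChange (n := m)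
    exact MorphismProperty.pullback_snd _ _ inferInstance
  have h4 : SmoothOfRelativeDimension 0 (pullback.diagonal (j ≫ a) ≫
      pullback.snd (j ≫ a) (j ≫ a)) := by
    rw [pullback.diagonal_snd]
    infer_instance
  exact exists_chart (p₂ ≫ j ≫ a) (opn hW) (pullback.snd (j ≫ a) (j ≫ a)) (j ≫ a)
    (by rw [← opn_snd hW, Category.assoc]) (pullback.diagonal (j ≫ a)) (graph hW) (diagonal_opn hW)
    0 m t

/-- `U × U ⟶ Spec k` is smooth. -/
theorem smooth_opn (m : ℕ) [SmoothOfRelativeDimension m (j ≫ a)] :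
    Smooth (opn hW ≫ p₂ ≫ j ≫ a) := by
  have h0 : SmoothOfRelativeDimension m (pullback.snd (j ≫ a) (j ≫ a)) := by
    have := smoothOfRelativeDimension_isStableUnderBaseChange (n := m)
    exact MorphismProperty.pullback_snd _ _ inferInstance
  have h1 : Smooth (j ≫ a) := SmoothOfRelativeDimension.smooth m (j ≫ a)
  have h2 : Smooth (pullback.snd (j ≫ a) (j ≫ a)) := SmoothOfRelativeDimension.smooth m _
  rw [← Category.assoc, opn_snd]
  infer_instance

end Graph

end Groth.Agent.Vancyc.H687.Charts
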