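import Groth.Agent.Etrest.HpullConst

/-!
# Endomorphisms of the constant sheaf `ℤ/n` on a connected scheme, the reduction map `ℤ ⟶ ℤ/n`
-/

set_option autoImplicit false
universe u
open CategoryTheory CategoryTheory.Limits AlgebraicGeometry Opposite

namespace Groth.Agent.Vancyc.H687.ConstEnd

open Groth.Agent.Etrest.HpullConst

noncomputable section

variable (X : Scheme.{u})

/-- On a connected scheme the constant sheaf functor is fully faithful. -/
theorem const_bijective [PreconnectedSpace X] [Nonempty X] (A : Type (u + 1)) [AddCommGroup A]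
    (B : AddCommGrpCat.{u + 1}) :
    Function.Bijective (fun ψ : B ⟶ AddCommGrpCat.of A => (constU X).map ψ) := by
  refine constU_map_bijective X (AddCommGrpCat.of A) B (EtCore.topIsTerminal X) ?_
  rw [isIso_unit_iff]
  have h1 : PreconnectedSpace (EtCoh.top X).left := inferInstanceAs (PreconnectedSpace X)
  have h2 : Nonempty (EtCoh.top X).left := inferInstanceAs (Nonempty X)
  exact bijective_const A

/-- The constant sheaf functor is faithful on a nonempty scheme. -/
theorem const_injective [Nonempty X] (A : Type (u + 1)) [AddCommGroup A]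
    (B : AddCommGrpCat.{u + 1}) :
    Function.Injective (fun ψ : B ⟶ AddCommGrpCat.of A => (constU X).map ψ) := by
  intro ψ ψ' h
  let adj := constantSheafAdj X.smallEtaleTopology AddCommGrpCat.{u + 1} (EtCore.topIsTerminal X)
  have h1 : ψ ≫ adj.unit.app (AddCommGrpCat.of A) = ψ' ≫ adj.unit.app (AddCommGrpCat.of A) := by
    have h2 := adj.unit.naturality ψ
    have h3 := adj.unit.naturality ψ'
    have h4 : (constU X).map ψ = (constU X).map ψ' := h
    rw [Functor.id_map] at h2 h3
    rw [h2, h3]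
    change _ ≫ ((sheafSections _ _).obj _).map ((constU X).map ψ) =
      _ ≫ ((sheafSections _ _).obj _).map ((constU X).map ψ')
    rw [h4]
  have h5 := congrArg (fun t => t ≫ (Sga4B.ConstLC.constToLC X A).hom.app (op (EtCoh.top X))) h1
  simp only [Category.assoc] at h5
  have h6 := unit_comp_constToLC X A (EtCore.topIsTerminal X)
  rw [h6] at h5
  ext b
  have h7 := congrArg (fun t : B ⟶ _ => t.hom b) h5
  have h8 : (LocallyConstant.const (EtCoh.top X).left (ψ.hom b) : LocallyConstant _ A) =
    LocallyConstant.const (EtCoh.top X).left (ψ'.hom b) := h7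
  have h9 : Nonempty (EtCoh.top X).left := inferInstanceAs (Nonempty X)
  exact DFunLike.congr_fun h8 (Classical.choice h9)

instance constU_additive' : (constU X).Additive := by
  infer_instance

theorem const_end [PreconnectedSpace X] [Nonempty X] (n : ℕ) (hn : 0 < n)
    (f : EtCoh.const X (ZMod n) ⟶ EtCoh.const X (ZMod n)) : ∃ m : ℕ, f = m • 𝟙 _ := by
  obtain ⟨ψ, rfl⟩ := (const_bijective X (ULift.{u + 1} (ZMod n))
    (AddCommGrpCat.of (ULift.{u + 1} (ZMod n)))).2 f
  have : NeZero n := ⟨hn.ne'⟩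
  let m : ℕ := (ψ.hom (ULift.up 1)).down.val
  have hm : ψ.hom (ULift.up 1) = m • (ULift.up (1 : ZMod n)) := by
    apply ULift.down_injective
    change _ = m • (1 : ZMod n)
    rw [nsmul_eq_mul, mul_one, ZMod.natCast_zmod_val]
  have h1 : ψ = m • 𝟙 _ := by
    ext ⟨x⟩
    have h2 : (ULift.up x : ULift.{u + 1} (ZMod n)) = x.val • (ULift.up (1 : ZMod n)) := by
      apply ULift.down_injective
      change x = x.val • (1 : ZMod n)
      rw [nsmul_eq_mul, mul_one, ZMod.natCast_zmod_val]
    rw [h2, map_nsmul, map_nsmul, hm]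
    rfl
  refine ⟨m, ?_⟩
  change (constU X).map ψ = _
  rw [h1, Functor.map_nsmul, CategoryTheory.Functor.map_id]

theorem const_ord [Nonempty X] (n m : ℕ) (h : m • 𝟙 (EtCoh.const X (ZMod n)) = 0) : n ∣ m := by
  have h1 : (constU X).map (m • 𝟙 (AddCommGrpCat.of (ULift.{u + 1} (ZMod n)))) =
      (constU X).map 0 := by
    rw [Functor.map_nsmul, CategoryTheory.Functor.map_id, Functor.map_zero]
    exact h
  have h2 := const_injective X _ _ h1
  have h3 := congrArg (fun t : AddCommGrpCat.of (ULift.{u + 1} (ZMod n)) ⟶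
    AddCommGrpCat.of (ULift.{u + 1} (ZMod n)) =>
      (show ULift.{u + 1} (ZMod n) from t.hom (ULift.up (1 : ZMod n))).down) h2
  have h4 : m • (1 : ZMod n) = 0 := h3
  rwa [nsmul_eq_mul, mul_one, ZMod.natCast_eq_zero_iff] at h4

/-- The reduction map `ℤ ⟶ ℤ/n` of abelian groups. -/
def redGrp (n : ℕ) : AddCommGrpCat.of (ULift.{u + 1} ℤ) ⟶ AddCommGrpCat.of (ULift.{u + 1} (ZMod n)) :=
  AddCommGrpCat.ofHom (AddMonoidHom.mk' (fun x : ULift.{u + 1} ℤ => ULift.up ((x.down : ℤ) : ZMod n))
    (fun a b => by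
      apply ULift.down_injective
      exact Int.cast_add _ _))

/-- The reduction map `ℤ ⟶ ℤ/n`. -/
def red (n : ℕ) : EtCoh.const X ℤ ⟶ EtCoh.const X (ZMod n) := (constU X).map (redGrp n)

theorem red_ord [Nonempty X] (n m : ℕ) (h : m • red X n = 0) : n ∣ m := by
  have h1 : (constU X).map (m • redGrp.{u} n) = (constU X).map 0 := by
    rw [Functor.map_nsmul, Functor.map_zero]
    exact h
  have h2 := const_injective X _ _ h1
  have h3 := congrArg (fun t : AddCommGrpCat.of (ULift.{u + 1} ℤ) ⟶
    AddCommGrpCat.of (ULift.{u + 1} (ZMod n)) =>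
      (show ULift.{u + 1} (ZMod n) from t.hom (ULift.up (1 : ℤ))).down) h2
  have h4 : m • ((1 : ℤ) : ZMod n) = 0 := h3
  rwa [nsmul_eq_mul, Int.cast_one, mul_one, ZMod.natCast_eq_zero_iff] at h4

end

end Groth.Agent.Vancyc.H687.ConstEnd
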