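import Groth.Agent.Etcore.HpVia
import Groth.Agent.Etcore.HpullEq
import Groth.Agent.Sga4B.AcycMor
import Groth.Agent.Sga4B.HVia

/-!
# Homotopy invariance: schemes contractible onto a section by a relative line

`bijective_hp_of_contraction`: let `p : X ⟶ T` with a section `s`, `g : L ⟶ X` an acyclic morphism for `n`-torsion
sheaves (a line, for instance) with two sections `t₀`, `t₁`, and `m : L ⟶ X` a morphism over `T` with
`t₁ ≫ m = 𝟙 X` and `t₀ ≫ m = p ≫ s`.  Then `H^q(X, p⁻¹ F) ⟶ H^q(T, s⁻¹ p⁻¹ F)` is bijective for all `q` and all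
`F` killed by `n`.
-/

set_option autoImplicit false
universe u
open CategoryTheory CategoryTheory.Limits AlgebraicGeometry Opposite CategoryTheory.Abelian
open scoped Groth.Agent.Etcore.EtInst

namespace Groth.Agent.Vancyc.H687.Contract

open Groth.Agent.Etcore.EtInst Groth.Agent.Etcore.HpullCalc Groth.Agent.Etcore.PullCoh
  Groth.Agent.Etcore.HpVia Groth.Agent.Sga4B Groth.Agent.Sga4B.HVia Groth.Agent.Sga4B.AcycMor
  Groth.Agent.EtpbcB.NKillEt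

variable {T X L : Scheme.{u}}

theorem bijective_hpVia_id (p : X ⟶ T) (w : 𝟙 X ≫ p = p) (F : EtCoh.Ab T) (q : ℕ) :
    Function.Bijective (hpVia (𝟙 X) p p w F q) :=
  (bijective_hpVia_iff (𝟙 X) p p w F q).2 (hp_id_bijective X _ q)

/-- Two sections of an acyclic morphism induce the same map on cohomology. -/
theorem hpVia_section_eq {n : ℕ} (p : X ⟶ T) (g : L ⟶ X) (hg : Acyc n g) (t₀ t₁ : X ⟶ L)
    (h₀ : t₀ ≫ g = 𝟙 X) (h₁ : t₁ ≫ g = 𝟙 X) (w₀ : t₀ ≫ g ≫ p = p) (w₁ : t₁ ≫ g ≫ p = p)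
    (F : EtCoh.Ab T) (hF : EtCoh.KilledBy n F) (q : ℕ) (y : HH L ((EtCoh.pull (g ≫ p)).obj F) q) :
    hpVia t₀ (g ≫ p) p w₀ F q y = hpVia t₁ (g ≫ p) p w₁ F q y := by
  have hb : Function.Bijective (hpVia g p (g ≫ p) rfl F q) :=
    (bijective_hpVia_iff g p (g ≫ p) rfl F q).2
      ((bijective_Hpull_iff g _ q).1 (hg.Hpull_bijective _ (killedBy_pull p hF) q))
  obtain ⟨x, rfl⟩ := hb.2 y
  rw [hpVia_comp t₀ g p (𝟙 X) (g ≫ p) p h₀ rfl w₀ (Category.id_comp p) F q x,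
    hpVia_comp t₁ g p (𝟙 X) (g ≫ p) p h₁ rfl w₁ (Category.id_comp p) F q x]

theorem bijective_hp_of_contraction {n : ℕ} (p : X ⟶ T) (s : T ⟶ X) (hs : s ≫ p = 𝟙 T)
    (g m : L ⟶ X) (hg : Acyc n g) (t₀ t₁ : X ⟶ L) (h₀ : t₀ ≫ g = 𝟙 X) (h₁ : t₁ ≫ g = 𝟙 X)
    (hm₀ : t₀ ≫ m = p ≫ s) (hm₁ : t₁ ≫ m = 𝟙 X) (hmp : m ≫ p = g ≫ p)
    (F : EtCoh.Ab T) (hF : EtCoh.KilledBy n F) (q : ℕ) :
    Function.Bijective (hp s ((EtCoh.pull p).obj F) q) := by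
  have w₀ : t₀ ≫ g ≫ p = p := by rw [reassoc_of% h₀]
  have w₁ : t₁ ≫ g ≫ p = p := by rw [reassoc_of% h₁]
  have w₂ : (p ≫ s) ≫ p = p := by rw [Category.assoc, hs, Category.comp_id]
  have key : ∀ x : HH X ((EtCoh.pull p).obj F) q,
      hpVia (𝟙 X) p p (Category.id_comp p) F q x =
        hpVia p (𝟙 T) p (Category.comp_id p) F q (hpVia s p (𝟙 T) hs F q x) := by
    intro x
    have e := hpVia_section_eq p g hg t₀ t₁ h₀ h₁ w₀ w₁ F hF q (hpVia m p (g ≫ p) hmp F q x)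
    rw [hpVia_comp t₀ m p (p ≫ s) (g ≫ p) p hm₀ hmp w₀ w₂ F q x,
      hpVia_comp t₁ m p (𝟙 X) (g ≫ p) p hm₁ hmp w₁ (Category.id_comp p) F q x] at e
    rw [← e, hpVia_comp p s p (p ≫ s) (𝟙 T) p rfl hs (Category.comp_id p) w₂ F q x]
  refine (bijective_hpVia_iff s p (𝟙 T) hs F q).1 ⟨?_, ?_⟩
  · intro x y hxy
    apply (bijective_hpVia_id p (Category.id_comp p) F q).1
    rw [key, key, hxy]
  · intro z
    obtain ⟨z', rfl⟩ := (bijective_hpVia_id (𝟙 T) (Category.id_comp (𝟙 T)) F q).2 z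
    refine ⟨hpVia p (𝟙 T) p (Category.comp_id p) F q z', ?_⟩
    exact hpVia_comp s p (𝟙 T) (𝟙 T) p (𝟙 T) hs (Category.comp_id p) hs (Category.id_comp (𝟙 T)) F q z'

end Groth.Agent.Vancyc.H687.Contract
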