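import Groth.Agent.Sga4B.DualFormal

/-!
# Formal consequences of duality

`phi Ψ Z tr F h : Ext^q(F, K) → Hom(Ext^m(Z, Ψ F), E)`, `m + q = N`, `E = ℤ/n`.

* `tr_injective`, `tr_bijective`: if `End K = ℤ/n` then `tr : Ext^N(Z, Ψ K) → E` is bijective.
* `exists_yoneda`: every class in `Ext^N(Z, Ψ K)` is `s · Ψ e` with `e ∈ Ext^N(F, K)`, for any
  `s : Z ⟶ Ψ F` "of order `n`".
-/

set_option autoImplicit false

universe w w' v v' u u' t

open CategoryTheory CategoryTheory.Limits CategoryTheory.Abelian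

namespace Groth.Agent.Vancyc.H687.DualCons

open Groth.Agent.Sga4B.DualFormal

variable {A : Type u} [Category.{v} A] [Abelian A] [HasExt.{w} A]
variable {B : Type u'} [Category.{v'} B] [Abelian B] [HasExt.{w'} B]
variable (Ψ : A ⥤ B) [Ψ.Additive] [PreservesFiniteLimits Ψ] [PreservesFiniteColimits Ψ]
variable (Z : B) {K : A} {N : ℕ} {E : Type t} [AddCommGroup E]
variable (tr : Ext.{w'} Z (Ψ.obj K) N →+ E)

theorem comp_mk₀_nsmul {B : Type u'} [Category.{v'} B] [Abelian B] [HasExt.{w'} B] {X Y : B} {N : ℕ}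
    (x : Ext.{w'} X Y N) (m : ℕ) : x.comp (Ext.mk₀ (m • 𝟙 Y)) (add_zero N) = m • x := by
  have h3 : Ext.mk₀ (m • 𝟙 Y) = m • Ext.mk₀ (𝟙 Y) := map_nsmul (Ext.addEquiv₀.symm) m _
  rw [h3]
  have h4 : x.comp (m • Ext.mk₀ (𝟙 Y)) (add_zero N) = m • x.comp (Ext.mk₀ (𝟙 Y)) (add_zero N) :=
    map_nsmul (Ext.precomp x _ (add_zero N)) m _
  rw [h4, Ext.comp_mk₀_id]

theorem phi_nsmul (m : ℕ) (x : Ext.{w'} Z (Ψ.obj K) N) :
    phi Ψ Z tr K (add_zero N) (Ext.mk₀ (m • 𝟙 K)) x = m • tr x := by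
  rw [phi_apply, Ext.mapExactFunctor_mk₀, Functor.map_nsmul, CategoryTheory.Functor.map_id,
    comp_mk₀_nsmul, map_nsmul]

variable {Ψ Z}

/-- Every homomorphism to `E` is a multiple of the trace. -/
theorem exists_nsmul (hphi : Function.Bijective (phi Ψ Z tr K (add_zero N)))
    (hEnd : ∀ f : K ⟶ K, ∃ m : ℕ, f = m • 𝟙 K) (c : Ext.{w'} Z (Ψ.obj K) N →+ E) :
    ∃ m : ℕ, ∀ x, c x = m • tr x := by
  obtain ⟨e, he⟩ := hphi.2 c
  obtain ⟨f, rfl⟩ := (Ext.mk₀_bijective _ _).2 e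
  obtain ⟨m, rfl⟩ := hEnd f
  refine ⟨m, fun x => ?_⟩
  rw [← he, phi_nsmul]

theorem tr_injective (hphi : Function.Bijective (phi Ψ Z tr K (add_zero N)))
    (hEnd : ∀ f : K ⟶ K, ∃ m : ℕ, f = m • 𝟙 K)
    (hsep : ∀ x : Ext.{w'} Z (Ψ.obj K) N, x ≠ 0 → ∃ c : Ext.{w'} Z (Ψ.obj K) N →+ E, c x ≠ 0) :
    Function.Injective tr := by
  rw [injective_iff_map_eq_zero]
  intro x hx
  by_contra hne
  obtain ⟨c, hc⟩ := hsep x hne
  obtain ⟨m, hm⟩ := exists_nsmul tr hphi hEnd c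
  apply hc
  rw [hm, hx, smul_zero]

/-- If moreover `End K` has exponent `n` exactly, `E = ℤ/n`, then the trace is bijective. -/
theorem tr_bijective (n : ℕ) (hn : 0 < n) (εE : E ≃+ ZMod n)
    (hphi : Function.Bijective (phi Ψ Z tr K (add_zero N)))
    (hEnd : ∀ f : K ⟶ K, ∃ m : ℕ, f = m • 𝟙 K) (hord : ∀ m : ℕ, m • 𝟙 K = 0 → n ∣ m)
    (hsep : ∀ x : Ext.{w'} Z (Ψ.obj K) N, x ≠ 0 → ∃ c : Ext.{w'} Z (Ψ.obj K) N →+ E, c x ≠ 0) :
    Function.Bijective tr := by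
  have : NeZero n := ⟨hn.ne'⟩
  have hinj := tr_injective tr hphi hEnd hsep
  have : Finite E := Finite.of_equiv _ εE.symm.toEquiv
  have hfin : Finite (Ext.{w'} Z (Ψ.obj K) N) := Finite.of_injective _ hinj
  refine ⟨hinj, ?_⟩
  have h1 : Nat.card (Ext.{w'} Z (Ψ.obj K) N) • 𝟙 K = 0 := by
    refine (Ext.mk₀_bijective K K).1 (hphi.1 ?_)
    ext x
    rw [phi_nsmul, ← map_nsmul, card_nsmul_eq_zero', map_zero, Ext.mk₀_zero, map_zero]
    rfl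
  have h2 := hord _ h1
  have h3 : Nat.card E = n := by
    rw [Nat.card_congr εE.toEquiv, Nat.card_zmod]
  have h4 : Nat.card E ≤ Nat.card (Ext.{w'} Z (Ψ.obj K) N) := by
    rw [h3]
    exact Nat.le_of_dvd Nat.card_pos h2
  exact ((Nat.bijective_iff_injective_and_card tr).2
    ⟨hinj, le_antisymm (Nat.card_le_card_of_injective _ hinj) h4⟩).2

/-- Every class in `Ext^N(Z, Ψ K)` is `s · Ψ e`. -/
theorem exists_yoneda (hinj : Function.Injective tr) {F : A}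
    (hphi : Function.Bijective (phi Ψ Z tr F (zero_add N))) (s : Ext.{w'} Z (Ψ.obj F) 0)
    (hs : ∀ w : E, ∃ c : Ext.{w'} Z (Ψ.obj F) 0 →+ E, c s = w) (y : Ext.{w'} Z (Ψ.obj K) N) :
    ∃ e : Ext.{w} F K N, s.comp (e.mapExactFunctor Ψ) (zero_add N) = y := by
  obtain ⟨c, hc⟩ := hs (tr y)
  obtain ⟨e, he⟩ := hphi.2 c
  refine ⟨e, hinj ?_⟩
  rw [← phi_apply Ψ Z tr F (zero_add N), he, hc]

end Groth.Agent.Vancyc.H687.DualCons
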