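import Groth.Agent.Ega2.SmoothBdry
import Groth.Agent.VarietyB.FibreGeneric
import Groth.Agent.Fga.DimLt

/-!
# The smooth locus of an integral scheme over an algebraically closed field

`f : Z ⟶ Spec k`, `Z` integral, locally of finite type, of dimension `m`:
* `smoothOfRelativeDimension_smoothLocus`: the smooth locus is smooth of relative dimension `m`;
* `nonempty_smoothLocus`, `mem_smoothLocus_iff` (regular local ring);
* `dim_compl`: a closed subscheme missing a nonempty open has dimension `< m`.
-/

set_option autoImplicit false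
universe u
open CategoryTheory CategoryTheory.Limits AlgebraicGeometry TopologicalSpace

namespace Groth.Agent.Vancyc.H687.Geo

open Groth.Agent Groth.Agent.Ega2.SmoothBdry

theorem localDim_eq {k : Type u} [Field k] {Z : Scheme.{u}} [IrreducibleSpace Z]
    (f : Z ⟶ Spec (CommRingCat.of k)) [LocallyOfFiniteType f] (x : Z) :
    FlatMor.localDim Z x = topologicalKrullDim Z := by
  let : Z.Over (Spec (CommRingCat.of k)) := ⟨f⟩
  have : LocallyOfFiniteType (Z ↘ (Spec (CommRingCat.of k))) := ‹LocallyOfFiniteType f›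
  exact VarietyB.FibreGeneric.localDim_eq_dim k Z x

/-- An open subscheme which is smooth is smooth of relative dimension the dimension. -/
theorem smoothOfRelativeDimension {k : Type u} [Field k] {Z U : Scheme.{u}} [IrreducibleSpace Z]
    (f : Z ⟶ Spec (CommRingCat.of k)) [LocallyOfFiniteType f] (j : U ⟶ Z) [IsOpenImmersion j]
    [Smooth (j ≫ f)] (m : ℕ) (hm : topologicalKrullDim Z = m) :
    SmoothOfRelativeDimension m (j ≫ f) := by
  refine smoothOfRelativeDimension_of_localDim (j ≫ f) m fun x => ?_
  rw [VarietyB.DimTop.localDim_eq_of_isOpenEmbedding j.isOpenEmbedding x, localDim_eq f, hm]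

section

variable {k : Type u} [Field k] {Z : Scheme.{u}} (f : Z ⟶ Spec (CommRingCat.of k))
  [LocallyOfFinitePresentation f]

theorem smooth_smoothLocus : Smooth (f.smoothLocus.ι ≫ f) := by
  have h := Scheme.Hom.preimage_smoothLocus_eq f.smoothLocus.ι f
  rw [← Scheme.Hom.smoothLocus_eq_top_iff, ← h, ← top_le_iff]
  rintro x -
  exact x.2

theorem mem_smoothLocus_iff [PerfectField k] [LocallyOfFiniteType f] (x : Z) :
    x ∈ f.smoothLocus ↔ IsRegularLocalRing (Z.presheaf.stalk x) :=
  VarietyA.SmoothReg.mem_smoothLocus_iff_of_perfectField f x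

theorem nonempty_smoothLocus [PerfectField k] [IsIntegral Z] :
    (f.smoothLocus : Set Z).Nonempty :=
  f.dense_smoothLocus_of_perfectField.nonempty

end

theorem succ_le_of_lt (d : WithBot ℕ∞) (m : ℕ) (h : (m : WithBot ℕ∞) < d) :
    ((m + 1 : ℕ) : WithBot ℕ∞) ≤ d := by
  induction d using WithBot.recBotCoe with
  | bot => exact absurd h not_lt_bot
  | coe d =>
    have h1 : (m : ℕ∞) < d := by exact_mod_cast h
    have h2 : ((m + 1 : ℕ) : ℕ∞) ≤ d := by
      push_cast
      exact Order.add_one_le_of_lt h1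
    exact_mod_cast h2

/-- A closed subscheme which misses a nonempty open has smaller dimension. -/
theorem dim_compl {Z C U : Scheme.{u}} [IrreducibleSpace Z] (i : C ⟶ Z) [IsClosedImmersion i]
    (j : U ⟶ Z) [Nonempty U] (hd : Disjoint (Set.range i) (Set.range j)) (m : ℕ)
    (hm : topologicalKrullDim Z = m) (q : ℕ) (hq : 2 * m ≤ q + 1) :
    IsEmpty C ∨ ∃ e : ℕ, topologicalKrullDim C ≤ e ∧ 2 * e < q := by
  by_cases hC : IsEmpty C
  · exact Or.inl hC
  refine Or.inr ?_
  rw [not_isEmpty_iff] at hC
  have hB : IsClosed (Set.range i) := i.isClosedEmbedding.isClosed_range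
  have hne : Set.range i ≠ Set.univ := by
    intro h
    obtain ⟨u⟩ := ‹Nonempty U›
    exact Set.disjoint_left.1 hd (h ▸ Set.mem_univ (j u)) ⟨u, rfl⟩
  have hdim : topologicalKrullDim C = topologicalKrullDim (Set.range i) :=
    IsHomeomorph.topologicalKrullDim_eq _
      (i.isClosedEmbedding.isEmbedding.toHomeomorph).isHomeomorph
  have h0 : (0 : WithBot ℕ∞) ≤ topologicalKrullDim (Set.range i) := by
    rw [← hdim]
    have h1 : Nonempty (IrreducibleCloseds C) :=
      ⟨⟨closure {Classical.arbitrary C}, isIrreducible_singleton.closure, isClosed_closure⟩⟩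
    exact Order.krullDim_nonneg
  have h1 : ∀ n : ℕ, (n : WithBot ℕ∞) ≤ topologicalKrullDim (Set.range i) → n + 1 ≤ m := by
    intro n hn
    have h2 := Fga.DimLt.exists_ltSeries_succ hB hne hn
    rw [hm] at h2
    exact_mod_cast h2
  have hm1 : 1 ≤ m := h1 0 h0
  refine ⟨m - 1, ?_, by omega⟩
  rw [hdim]
  by_contra hcon
  rw [not_le] at hcon
  have h2 := succ_le_of_lt _ _ hcon
  have h3 := h1 _ h2
  omega

end Groth.Agent.Vancyc.H687.Geo
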