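import Groth.Agent.Vancyc.H687.TopCoh
import Groth.Agent.Vancyc.H687.Geo
import Groth.Agent.Ega1.ReducedSub
import Groth.Agent.Etrest.ConstBasic
import Groth.Agent.Etcore.Torsion
import Groth.Agent.Sga4B.ShriekTools

/-!
# Top cohomology of an integral proper scheme (possibly singular) over an algebraically closed field

The two external inputs are hypotheses here: duality (`HDual`) and the bound of the cohomological
dimension (`HCd`); see `Groth.Agent.Vancyc.H687.TopFinal`.
-/

set_option autoImplicit false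
universe u

open CategoryTheory CategoryTheory.Limits AlgebraicGeometry Opposite CategoryTheory.Abelian

namespace Groth.Agent.Vancyc.H687.TopH

noncomputable section

variable (k : Type u) [Field k]

/-- Duality (`Sga4B.DualFinal.duality`). -/
def HDual (n : ℕ) : Prop := ∀ (X P : Scheme.{u}) (a : P ⟶ Spec (CommRingCat.of k)) [IsProper a]
  (j : X ⟶ P) [IsOpenImmersion j] (d : ℕ) [SmoothOfRelativeDimension d (j ≫ a)],
  TopCoh.HasDual j n (2 * d)

/-- Cohomological dimension (`EtpbcA.CdTwoDim.cohDimLE_two_mul`). -/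
def HCd : Prop := ∀ (X : Scheme.{u}) (a : X ⟶ Spec (CommRingCat.of k)) [LocallyOfFiniteType a]
  [QuasiCompact a] (n : ℕ), topologicalKrullDim X ≤ n → EtCoh.CohDimLE X (2 * n)

variable {k}

theorem isTorsion_pull_const {C P : Scheme.{u}} (i : C ⟶ P) (n : ℕ) (hn : 0 < n) :
    EtCoh.IsTorsion ((EtCoh.pull i).obj (EtCoh.const P (ZMod n))) :=
  Etcore.Torsion.isTorsion_pull _ _ (Etrest.ConstBasic.isTorsion_of_killedBy hn
    (Etrest.ConstBasic.killedBy_const P (ZMod n) n (by simp)))

theorem subsingleton_H_of_isZero {X : Scheme.{u}} {F : EtCoh.Ab X} (hF : IsZero F) (i : ℕ) :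
    Subsingleton (EtCoh.H X F i) := by
  refine ⟨fun x y => ?_⟩
  have h1 : ∀ z : EtCoh.H X F i, z = 0 := by
    intro z
    have h2 : z.comp (Ext.mk₀ (𝟙 F)) (add_zero i) = z := Ext.comp_mk₀_id z
    rw [← h2, hF.eq_of_src (𝟙 F) 0, Ext.mk₀_zero, Ext.comp_zero]
  rw [h1 x, h1 y]

theorem irreducibleSpace_of_open {U Z : Scheme.{u}} [IrreducibleSpace Z] (j : U ⟶ Z)
    [IsOpenImmersion j] [Nonempty U] : IrreducibleSpace U := by
  have h1 : IsPreirreducible (j ⁻¹' Set.univ) :=
    (PreirreducibleSpace.isPreirreducible_univ (X := Z)).preimage j.isOpenEmbedding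
  have : PreirreducibleSpace U := ⟨h1⟩
  exact ⟨inferInstance⟩

variable {Z U : Scheme.{u}} (a : Z ⟶ Spec (CommRingCat.of k)) [IsProper a] [IrreducibleSpace Z]
  (j : U ⟶ Z) [IsOpenImmersion j] [Nonempty U] (m : ℕ)
  (hm : topologicalKrullDim Z = m) (n : ℕ) (hn : 0 < n) (hC : HCd.{u} k)

include a hm hn hC in
theorem exists_compl : ∃ (C : Scheme.{u}) (i : C ⟶ Z) (_ : IsClosedImmersion i),
    IsCompl (Set.range i) (Set.range j) ∧
    ∀ q, 2 * m ≤ q + 1 → Subsingleton (EtCoh.H C ((EtCoh.pull i).obj (EtCoh.const Z (ZMod n))) q) := by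
  let D : TopologicalSpace.Closeds Z := ⟨(Set.range j)ᶜ, j.isOpenEmbedding.isOpen_range.isClosed_compl⟩
  let I := Scheme.IdealSheafData.vanishingIdeal D
  have hr : Set.range I.subschemeι = (Set.range j)ᶜ := by
    rw [Scheme.IdealSheafData.range_subschemeι, Scheme.IdealSheafData.coe_support_vanishingIdeal]
    rfl
  have hc : IsCompl (Set.range I.subschemeι) (Set.range j) := by
    rw [hr]
    exact isCompl_compl.symm
  refine ⟨I.subscheme, I.subschemeι, inferInstance, hc, fun q hq => ?_⟩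
  rcases Geo.dim_compl I.subschemeι j hc.disjoint m hm q hq with h | ⟨e, he, heq⟩
  · exact subsingleton_H_of_isZero (Sga4B.ShriekTools.isZero_of_isEmpty h _) q
  · exact hC I.subscheme (I.subschemeι ≫ a) e he _ (isTorsion_pull_const _ n hn) q heq

variable [SmoothOfRelativeDimension m (j ≫ a)] (hD : HDual.{u} k n)

include a j m hm hn hD hC

theorem nonempty_equiv : Nonempty (EtCoh.H Z (EtCoh.const Z (ZMod n)) (2 * m) ≃+ ZMod n) := by
  obtain ⟨C, i, _, hc, h⟩ := exists_compl a j m hm n hn hC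
  have : IrreducibleSpace U := irreducibleSpace_of_open j
  exact TopCoh.nonempty_equiv j (hD U Z a j m) hn i hc (h _ (by omega)) (fun M hM => h M (by omega))

theorem Hpull_eq_zero {T O : Scheme.{u}} (z : T ⟶ U) [IsClosedImmersion (z ≫ j)] [Nonempty T]
    (ι : O ⟶ Z) [IsOpenImmersion ι] (hdz : Disjoint (Set.range (z ≫ j)) (Set.range ι))
    [PreservesFiniteLimits (EtCoh.pull ι)] (x : EtCoh.H Z (EtCoh.const Z (ZMod n)) (2 * m)) :
    EtCore.Hpull ι (EtCoh.const Z (ZMod n)) (2 * m) x = 0 := by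
  obtain ⟨C, i, _, hc, h⟩ := exists_compl a j m hm n hn hC
  have : IrreducibleSpace U := irreducibleSpace_of_open j
  exact TopCoh.Hpull_eq_zero j (hD U Z a j m) hn i hc (h _ (by omega)) (fun M hM => h M (by omega))
    z ι hdz x

end

end Groth.Agent.Vancyc.H687.TopH
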