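import Groth.Agent.Vancyc.H327.Euler
import Groth.Agent.Vancyc.H687.Add
import Groth.Agent.Vancyc.H687.Rigid
import Groth.Agent.Vancyc.H687.TopH
import Groth.Agent.Vancyc.H687.Charts

/-!
# Classes of points on an integral proper scheme (possibly singular), S4009

`Z` integral proper over `k` algebraically closed, `j : U ⟶ Z` a nonempty smooth open, `dim Z = m`.
* `lci_point`, `lci_graph`;
* `cyc_point_eq`: the class of a closed point of `U` does not depend on the point;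
* `exists_int`: `∫ : H^{2m}(Z, ℤ/n) ≃ ℤ/n` with `∫ cyc z = 1`;
* `hpull_cyc_of_isIso`: birational morphisms;
* `hpull_cyc_eq`: a section whose zeros are simple.
-/

set_option autoImplicit false
set_option backward.isDefEq.respectTransparency false
set_option backward.isDefEq.respectTransparency.types false
universe u
open CategoryTheory CategoryTheory.Limits AlgebraicGeometry Opposite Abelian
open scoped Groth.Agent.Etcore.EtInst
open Groth.Agent.Etcore.EtInst

namespace Groth.Agent.Vancyc.H687.Main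

open Groth.Agent.Vancyc.H327 Charts Squares

noncomputable section

variable {k : Type u} [Field k]

section Point

variable {Z U : Scheme.{u}} (a : Z ⟶ Spec (CommRingCat.of k)) [IsSeparated a] (j : U ⟶ Z)
  [IsOpenImmersion j] (m n : ℕ) [SmoothOfRelativeDimension m (j ≫ a)] (hn : (n : k) ≠ 0)

include hn in
theorem lci_point (z : Spec (CommRingCat.of k) ⟶ Z) (hz : z ≫ a = 𝟙 _)
    (hzj : Set.range z ⊆ Set.range j) (O : Z.Opens) (hO : (O : Set Z) = (Set.range z)ᶜ) :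
    LCI a z O m n := by
  obtain ⟨u, rfl⟩ : ∃ u, u ≫ j = z := ⟨_, IsOpenImmersion.lift_fac j z hzj⟩
  have hu : u ≫ j ≫ a = 𝟙 _ := by rw [← Category.assoc, hz]
  have h1 : IsClosedImmersion (u ≫ j) := isClosedImmersion_point a _ hz
  have h2 : IsClosedImmersion u := isClosedImmersion_point (j ≫ a) _ hu
  have h3 : SmoothOfRelativeDimension (0 + m) (j ≫ a) := by
    rw [zero_add]
    infer_instance
  have h4 : SmoothOfRelativeDimension 0 (u ≫ j ≫ a) := by
    rw [hu]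
    infer_instance
  have h5 : Smooth (j ≫ a) := SmoothOfRelativeDimension.smooth m (j ≫ a)
  have h6 : IsLocallyNoetherian U := LocallyOfFiniteType.isLocallyNoetherian (j ≫ a)
  exact LCI.of_open j u (LCI.of_pair (O := ⟨(Set.range u)ᶜ,
    u.isClosedEmbedding.isClosed_range.isOpen_compl⟩) (j ≫ a) (j ≫ a) (𝟙 _) (Category.comp_id _) u
    0 m hn rfl) hO

end Point

section Graph

variable {Z U W : Scheme.{u}} {a : Z ⟶ Spec (CommRingCat.of k)}
  {j : U ⟶ Z} {p₁ : W ⟶ Z} {p₂ : W ⟶ U} (hW : IsPullback p₁ p₂ a (j ≫ a)) [IsSeparated a]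
  [IsOpenImmersion j] (m n : ℕ) [SmoothOfRelativeDimension m (j ≫ a)] (hn : (n : k) ≠ 0)

include hn in
theorem lci_graph (O : W.Opens) (hO : (O : Set W) = (Set.range (graph hW))ᶜ) :
    LCI (p₂ ≫ j ≫ a) (graph hW) O m n := by
  have h1 := isClosedImmersion_graph hW
  have h2 := isOpenImmersion_opn hW
  have h3 : SmoothOfRelativeDimension (0 + m) (pullback.snd (j ≫ a) (j ≫ a)) := by
    rw [zero_add]
    have := smoothOfRelativeDimension_isStableUnderBaseChange (n := m)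
    exact MorphismProperty.pullback_snd _ _ inferInstance
  have h4 : SmoothOfRelativeDimension 0 (pullback.diagonal (j ≫ a) ≫
      pullback.snd (j ≫ a) (j ≫ a)) := by
    rw [pullback.diagonal_snd]
    infer_instance
  have h5 := smooth_opn hW m
  have h6 : IsLocallyNoetherian (pullback (j ≫ a) (j ≫ a)) :=
    LocallyOfFiniteType.isLocallyNoetherian (opn hW ≫ p₂ ≫ j ≫ a)
  have h7 := diagonal_opn hW
  have h8 : IsClosedImmersion (pullback.diagonal (j ≫ a) ≫ opn hW) := by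
    rw [h7]
    exact h1
  have h9 := LCI.of_open (opn hW) (pullback.diagonal (j ≫ a)) (O := O) (LCI.of_pair
    (O := ⟨(Set.range (pullback.diagonal (j ≫ a)))ᶜ,
      (pullback.diagonal (j ≫ a)).isClosedEmbedding.isClosed_range.isOpen_compl⟩)
    (opn hW ≫ p₂ ≫ j ≫ a) (pullback.snd (j ≫ a) (j ≫ a)) (j ≫ a)
    (by rw [← opn_snd hW, Category.assoc]) (pullback.diagonal (j ≫ a)) 0 m hn rfl)
    (by rw [h7]; exact hO)
  rwa [h7] at h9

end Graph

section Rig

theorem isTorsion_const (W : Scheme.{u}) (n : ℕ) (hn : 0 < n) :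
    EtCoh.IsTorsion (EtCoh.const W (ZMod n)) :=
  Etrest.ConstBasic.isTorsion_of_killedBy hn
    (Etrest.ConstBasic.killedBy_const W (ZMod n) n (by simp))

theorem pos_of_ne {n : ℕ} (hn : (n : k) ≠ 0) : 0 < n :=
  Nat.pos_of_ne_zero fun h => hn (by rw [h, Nat.cast_zero])

theorem noeth {Z : Scheme.{u}} (a : Z ⟶ Spec (CommRingCat.of k)) [LocallyOfFiniteType a] :
    IsLocallyNoetherian Z := LocallyOfFiniteType.isLocallyNoetherian a

theorem compact {Z : Scheme.{u}} (a : Z ⟶ Spec (CommRingCat.of k)) [QuasiCompact a] :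
    CompactSpace Z := QuasiCompact.compactSpace_of_compactSpace a

variable {Z U : Scheme.{u}} (a : Z ⟶ Spec (CommRingCat.of k)) [IsProper a] [IsLocallyNoetherian Z]
  [CompactSpace Z] (j : U ⟶ Z)
  [IsOpenImmersion j] (m n : ℕ) [SmoothOfRelativeDimension m (j ≫ a)] (hn : (n : k) ≠ 0)
  [IsAlgClosed k] [PreconnectedSpace U] (hP : LocZero.PBC.{u})

include hP hn in
/-- The class of a point of `U` in `H^{2m}(Z)` does not depend on the point. -/
theorem cyc_point_eq (z z' : Spec (CommRingCat.of k) ⟶ Z) [IsClosedImmersion z]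
    [IsClosedImmersion z'] (hz : z ≫ a = 𝟙 _) (hz' : z' ≫ a = 𝟙 _)
    (hzj : Set.range z ⊆ Set.range j) (hzj' : Set.range z' ⊆ Set.range j)
    {O O' : Z.Opens} (h : LCI a z O m n)
    (h' : LCI a z' O' m n) (κ : HS (ZMod n) (O0 k m) (2 * m)) : cyc h κ = cyc h' κ := by
  have hW : IsPullback (pullback.fst a (j ≫ a)) (pullback.snd a (j ≫ a)) a (j ≫ a) :=
    IsPullback.of_hasPullback a (j ≫ a)
  have hcl := isClosedImmersion_graph hW
  have hU : CompactSpace U := by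
    have hN : IsNoetherian Z := {}
    have h1 := TopologicalSpace.NoetherianSpace.isCompact (Set.range j)
    rw [← Set.image_univ] at h1
    exact ⟨j.isOpenEmbedding.isInducing.isCompact_iff.2 h1⟩
  have hqj : QuasiCompact (j ≫ a) := by
    have : QuasiCompact j := inferInstance
    infer_instance
  have hqW : QuasiCompact (pullback.snd a (j ≫ a) ≫ j ≫ a) := inferInstance
  have hfW : LocallyOfFiniteType (pullback.snd a (j ≫ a) ≫ j ≫ a) := inferInstance
  have hW1 : IsLocallyNoetherian (pullback a (j ≫ a)) := noeth (pullback.snd a (j ≫ a) ≫ j ≫ a)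
  have hW2 : CompactSpace (pullback a (j ≫ a) : Scheme.{u}) :=
    compact (pullback.snd a (j ≫ a) ≫ j ≫ a)
  have hΓ := lci_graph hW m n hn ⟨(Set.range (graph hW))ᶜ,
    (graph hW).isClosedEmbedding.isClosed_range.isOpen_compl⟩ rfl
  have key : ∀ (u : Spec (CommRingCat.of k) ⟶ U) (hu : u ≫ j ≫ a = 𝟙 _)
      [IsClosedImmersion (u ≫ j)] {O : Z.Opens} (h : LCI a (u ≫ j) O m n),
      hpull (ZMod n) (Rigid.slice hW u hu) (2 * m) (cyc hΓ κ) = cyc h κ := by
    intro u hu _ O h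
    refine cyc_pull hΓ κ h (g := Rigid.slice hW u hu) ?_ (g' := u) ?_
    · rw [← Category.assoc, Rigid.slice_snd, Category.assoc, hu, Category.comp_id]
    · refine isPullback_graph (graph_snd hW) (Rigid.isPullback_slice hW u hu) (v := u ≫ j)
        (by rw [Category.assoc, hu]) ?_
      apply hW.hom_ext
      · rw [Category.assoc, Rigid.slice_fst, Category.comp_id, Category.assoc, graph_fst]
      · rw [Category.assoc, Rigid.slice_snd, Category.assoc, Category.assoc, graph_snd,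
          Category.comp_id, ← Category.assoc, ← Category.assoc, Category.assoc u j a, hu,
          Category.id_comp]
  obtain ⟨u, rfl⟩ : ∃ u, u ≫ j = z := ⟨_, IsOpenImmersion.lift_fac j z hzj⟩
  obtain ⟨u', rfl⟩ : ∃ u, u ≫ j = z' := ⟨_, IsOpenImmersion.lift_fac j z' hzj'⟩
  rw [← key u (by rw [← Category.assoc, hz]) h, ← key u' (by rw [← Category.assoc, hz']) h']
  exact Rigid.rigid hW hP (ZMod n) (isTorsion_const _ n (pos_of_ne hn)) (2 * m) (cyc hΓ κ) u _ u' _

end Rig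

section Int

variable {Z U : Scheme.{u}} (a : Z ⟶ Spec (CommRingCat.of k)) [IsProper a] [IsLocallyNoetherian Z]
  [CompactSpace Z] [IrreducibleSpace Z]
  (j : U ⟶ Z) [IsOpenImmersion j] [Nonempty U] (m n : ℕ) [SmoothOfRelativeDimension m (j ≫ a)]
  (hm : topologicalKrullDim Z = m) (hn : (n : k) ≠ 0)
  (hC : TopH.HCd.{u} k) (hD : TopH.HDual.{u} k n)
  (κ : HS (ZMod n) (O0 k m) (2 * m))

include hm hn hC hD in
/-- Every class of top degree is a multiple of the class of a point. -/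
theorem exists_smul_cyc (z : Spec (CommRingCat.of k) ⟶ Z) [IsClosedImmersion z]
    (hzj : Set.range z ⊆ Set.range j) {O : Z.Opens} (h : LCI a z O m n)
    (hκ : ∀ y : HS (ZMod n) O (2 * m), ∃ r : ℤ, y = r • fc h κ) (x : HC (ZMod n) Z (2 * m)) :
    ∃ r : ℤ, x = r • cyc h κ := by
  have h0 : IsOpenImmersion.lift j z hzj ≫ j = z := IsOpenImmersion.lift_fac j z hzj
  have h1 : IsClosedImmersion (IsOpenImmersion.lift j z hzj ≫ j) := by
    rw [h0]
    infer_instance
  have h2 : Disjoint (Set.range (IsOpenImmersion.lift j z hzj ≫ j)) (Set.range O.ι) := by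
    rw [h0, Scheme.Opens.range_ι, h.compl]
    exact disjoint_compl_right
  have h3 : EtCore.Hpull O.ι (EtCoh.const Z (ZMod n)) (2 * m) x = 0 :=
    TopH.Hpull_eq_zero a j m hm n (pos_of_ne hn) hC hD (IsOpenImmersion.lift j z hzj) O.ι h2 x
  have h4 : hpull (ZMod n) O.ι (2 * m) x = 0 := (Rigid.hp_eq_zero_iff_HC _ _ _ x).1 h3
  obtain ⟨y, hy⟩ := HS.exists_forget (ZMod n) O (2 * m) x h4
  obtain ⟨r, hr⟩ := hκ y
  exact ⟨r, by rw [← hy, hr, map_zsmul, cyc_apply]⟩

include hm hn hC hD in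
theorem exists_int_point (z : Spec (CommRingCat.of k) ⟶ Z) [IsClosedImmersion z]
    (hzj : Set.range z ⊆ Set.range j) {O : Z.Opens} (h : LCI a z O m n)
    (hκ : ∀ y : HS (ZMod n) O (2 * m), ∃ r : ℤ, y = r • fc h κ) :
    ∃ I : HC (ZMod n) Z (2 * m) ≃+ ZMod n, I (cyc h κ) = 1 := by
  obtain ⟨e⟩ := TopH.nonempty_equiv a j m hm n (pos_of_ne hn) hC hD
  let e' : HC (ZMod n) Z (2 * m) ≃+ ZMod n := e
  obtain ⟨r, hr⟩ := exists_smul_cyc a j m n hm hn hC hD κ z hzj h hκ (e'.symm 1)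
  have h1 : (r : ZMod n) * e' (cyc h κ) = 1 := by
    have h2 := congrArg e' hr
    rw [AddEquiv.apply_symm_apply, map_zsmul, zsmul_eq_mul] at h2
    exact h2.symm
  let v : (ZMod n)ˣ := ⟨(r : ZMod n), e' (cyc h κ), h1, by rw [mul_comm, h1]⟩
  refine ⟨e'.trans (DistribMulAction.toAddEquiv (ZMod n) v), ?_⟩
  exact h1

/-- Closed points are `k`-points. -/
theorem exists_point [IsAlgClosed k] {Y : Scheme.{u}} (y : Y ⟶ Spec (CommRingCat.of k))
    [LocallyOfFiniteType y] (z : Y) (hz : IsClosed ({z} : Set Y)) :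
    ∃ i : Spec (CommRingCat.of k) ⟶ Y, i ≫ y = 𝟙 _ ∧ (∀ x, i x = z) ∧ Set.range i = {z} := by
  have h1 : ∀ x, pointOfClosedPoint y z hz x = z := fun x => by
    rw [Subsingleton.elim x (IsLocalRing.closedPoint k)]
    exact pointOfClosedPoint_apply y z hz _
  refine ⟨pointOfClosedPoint y z hz, pointOfClosedPoint_comp y z hz, h1, ?_⟩
  ext w
  constructor
  · rintro ⟨x, rfl⟩
    exact h1 x
  · rintro rfl
    exact ⟨IsLocalRing.closedPoint k, h1 _⟩

/-- A nonempty open subset of a scheme of finite type contains a `k`-point. -/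
theorem exists_point_of_open [IsAlgClosed k] {Y : Scheme.{u}} (y : Y ⟶ Spec (CommRingCat.of k))
    [LocallyOfFiniteType y] (V : Y.Opens) (hV : (V : Set Y).Nonempty) :
    ∃ i : Spec (CommRingCat.of k) ⟶ Y, i ≫ y = 𝟙 _ ∧ Set.range i ⊆ V := by
  have h2 : JacobsonSpace Y := LocallyOfFiniteType.jacobsonSpace y
  obtain ⟨x, hx1, hx2⟩ := nonempty_inter_closedPoints (Z := (V : Set Y)) hV
    V.isOpen.isLocallyClosed
  obtain ⟨i, hi1, -, hi2⟩ := exists_point y x hx2
  exact ⟨i, hi1, by rw [hi2]; exact Set.singleton_subset_iff.2 hx1⟩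

include hm hn hC hD in
/-- **The integral.** -/
theorem exists_int [IsAlgClosed k] (hP : LocZero.PBC.{u})
    (hκ : ∀ (z : Spec (CommRingCat.of k) ⟶ Z) [IsClosedImmersion z] (_ : z ≫ a = 𝟙 _)
      (_ : Set.range z ⊆ Set.range j) (O : Z.Opens)
      (h : LCI a z O m n) (y : HS (ZMod n) O (2 * m)), ∃ r : ℤ, y = r • fc h κ) :
    ∃ I : HC (ZMod n) Z (2 * m) ≃+ ZMod n, ∀ (z : Spec (CommRingCat.of k) ⟶ Z)
      [IsClosedImmersion z] (_ : z ≫ a = 𝟙 _) (_ : Set.range z ⊆ Set.range j) (O : Z.Opens)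
      (h : LCI a z O m n), I (cyc h κ) = 1 := by
  have h3 : IrreducibleSpace U := TopH.irreducibleSpace_of_open j
  obtain ⟨z₀, hz₀, hz₀j⟩ := exists_point_of_open a j.opensRange (Set.range_nonempty j)
  have h4 : IsClosedImmersion z₀ := isClosedImmersion_point a _ hz₀
  have h5 : LCI a z₀ ⟨(Set.range z₀)ᶜ, z₀.isClosedEmbedding.isClosed_range.isOpen_compl⟩ m n :=
    lci_point a j m n hn z₀ hz₀ hz₀j _ rfl
  obtain ⟨I, hI⟩ := exists_int_point a j m n hm hn hC hD κ z₀ hz₀j h5 (hκ z₀ hz₀ hz₀j _ h5)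
  refine ⟨I, fun z _ hz hzj O h => ?_⟩
  rw [cyc_point_eq a j m n hn hP z z₀ hz hz₀ hzj hz₀j h h5 κ, hI]

end Int

section Birational

variable {Z Z' : Scheme.{u}} {a : Z ⟶ Spec (CommRingCat.of k)} {a' : Z' ⟶ Spec (CommRingCat.of k)}
  [IsLocallyNoetherian Z] [CompactSpace Z] [IsLocallyNoetherian Z'] [CompactSpace Z'] {m n : ℕ}

/-- Pull-back of the class of a point of the isomorphism locus. -/
theorem hpull_cyc_of_isIso (g : Z' ⟶ Z) (hg : g ≫ a = a') (W : Z.Opens) [IsIso (g ∣_ W)]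
    {z : Spec (CommRingCat.of k) ⟶ Z} {z' : Spec (CommRingCat.of k) ⟶ Z'} [IsClosedImmersion z]
    [IsClosedImmersion z'] (hz : z' ≫ g = z)
    (hzW : Set.range z ⊆ W) {O : Z.Opens} {O' : Z'.Opens} (h : LCI a z O m n)
    (h' : LCI a' z' O' m n) (κ : HS (ZMod n) (O0 k m) (2 * m)) :
    hpull (ZMod n) g (2 * m) (cyc h κ) = cyc h' κ :=
  cyc_pull h κ h' hg (isPullback_of_isIso g W z' hz
    (IsOpenImmersion.lift W.ι z (by rwa [Scheme.Opens.range_ι]))
    (IsOpenImmersion.lift_fac _ _ _))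

end Birational

section Zeros

variable {Z U V : Scheme.{u}} (a : Z ⟶ Spec (CommRingCat.of k)) [IsSeparated a]
  [IsLocallyNoetherian Z] [CompactSpace Z] [IsLocallyNoetherian V] [CompactSpace V] (j : U ⟶ Z)
  [IsOpenImmersion j] {m n : ℕ} [SmoothOfRelativeDimension m (j ≫ a)] (hn : (n : k) ≠ 0)
  {v : V ⟶ Spec (CommRingCat.of k)} {s : Z ⟶ V} [IsClosedImmersion s] {O : V.Opens}
  (h : LCI v s O m n)
  (κ : HS (ZMod n) (O0 k m) (2 * m)) (σ : Z ⟶ V) (hσ : σ ≫ v = a)

include hn hσ in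
/-- At a simple zero `z` of `σ` the class `σ^*[s]` agrees with the class of `z`. -/
theorem agree (z : Spec (CommRingCat.of k) ⟶ Z) [IsClosedImmersion z] (hz : z ≫ a = 𝟙 _)
    (hzj : Set.range z ⊆ Set.range j) {Oz : Z.Opens}
    (hz' : LCI a z Oz m n) (N : Z.Opens) (i' : Spec (CommRingCat.of k) ⟶ N)
    (hi' : i' ≫ N.ι = z) (w : IsPullback i' z (N.ι ≫ σ) s)
    (p : Spec (CommRingCat.of k)) :
    Add.Agree (z p) (2 * m) (HS.pull (ZMod n) σ (O' := σ ⁻¹ᵁ O) le_rfl (2 * m) (fc h κ))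
      (fc hz' κ) := by
  -- shrink `N` to a subset of `U`
  let N' : Z.Opens := N ⊓ j.opensRange
  have hr : ∀ x, z x ∈ N' := fun x =>
    ⟨by rw [← hi', Scheme.Hom.comp_apply]; exact (i' x).2, hzj ⟨x, rfl⟩⟩
  let i'' : Spec (CommRingCat.of k) ⟶ N' := IsOpenImmersion.lift N'.ι z (by
    rw [Scheme.Opens.range_ι]
    rintro _ ⟨x, rfl⟩
    exact hr x)
  have hi'' : i'' ≫ N'.ι = z := IsOpenImmersion.lift_fac _ _ _
  let b : (N' : Scheme.{u}) ⟶ N := Z.homOfLE inf_le_left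
  have hb : b ≫ N.ι = N'.ι := Z.homOfLE_ι _
  let b' : (N' : Scheme.{u}) ⟶ U := IsOpenImmersion.lift j N'.ι (by
    rw [Scheme.Opens.range_ι]
    rintro x ⟨-, y, rfl⟩
    exact ⟨y, rfl⟩)
  have hb' : b' ≫ j = N'.ι := IsOpenImmersion.lift_fac _ _ _
  have hbo : IsOpenImmersion b' := by
    have : IsOpenImmersion (b' ≫ j) := by
      rw [hb']
      infer_instance
    exact IsOpenImmersion.of_comp b' j
  have hib : i'' ≫ b = i' := by
    rw [← cancel_mono N.ι, Category.assoc, hb, hi'', hi']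
  have hcp : CompactSpace (N' : Scheme.{u}) := compactSpace_opens N'
  have hci : IsClosedImmersion i'' := by
    have : IsClosedImmersion (i'' ≫ N'.ι) := by
      rw [hi'']
      infer_instance
    exact IsClosedImmersion.of_comp i'' N'.ι
  have w' : IsPullback i'' z (N'.ι ≫ σ) s := by
    have h1 := (isPullback_mono i'' b hib).paste_vert w
    rwa [Category.id_comp, ← Category.assoc, hb] at h1
  have w'' : IsPullback i'' (𝟙 _) N'.ι z := isPullback_mono i'' N'.ι hi''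
  have h3 : SmoothOfRelativeDimension (0 + m) (b' ≫ j ≫ a) := inferInstance
  have h4 : SmoothOfRelativeDimension m (𝟙 (N' : Scheme.{u}) ≫ N'.ι ≫ a) := by
    rw [Category.id_comp, ← hb', Category.assoc]
    rwa [zero_add] at h3
  have h5 : LCI (N'.ι ≫ a) i'' (N'.ι ⁻¹ᵁ Oz) m n :=
    lci_point (N'.ι ≫ a) (𝟙 _) m n hn i'' (by
      rw [← Category.assoc, hi'', hz]) (fun x _ => ⟨x, rfl⟩) (N'.ι ⁻¹ᵁ Oz) (by
      rw [range_of_isPullback w''.flip]
      change N'.ι ⁻¹' (Oz : Set Z) = _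
      rw [hz'.compl]
      rfl)
  have e1 : N'.ι ⁻¹ᵁ Oz = N'.ι ⁻¹ᵁ (σ ⁻¹ᵁ O) := by
    rw [← Scheme.Hom.comp_preimage]
    exact preimage_eq w'.flip h.compl h5.compl
  refine ⟨N', hr p, e1.symm, ?_⟩
  rw [HS.pull_comp (ZMod n) N'.ι σ (N'.ι ≫ σ) rfl le_rfl le_rfl le_rfl]
  have h7 := fc_pullback h κ h5 (g := N'.ι ≫ σ) (by rw [Category.assoc, hσ]) w'
    (by rw [e1, Scheme.Hom.comp_preimage])
  have h8 := fc_pullback hz' κ h5 (g := N'.ι) rfl w'' le_rfl
  have key : ∀ (O₁ : (N' : Scheme.{u}).Opens) (_ : O₁ = N'.ι ⁻¹ᵁ Oz) (hA : O₁ ≤ (N'.ι ≫ σ) ⁻¹ᵁ O)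
      (hB : O₁ ≤ N'.ι ⁻¹ᵁ Oz), HS.pull (ZMod n) (N'.ι ≫ σ) hA (2 * m) (fc h κ) =
        HS.pull (ZMod n) N'.ι hB (2 * m) (fc hz' κ) := by
    intro O₁ hO₁ hA hB
    subst hO₁
    exact h7.trans h8.symm
  exact key _ e1.symm _ _

include hn hσ in
/-- The class of the zeros of a section, all of whose zeros are simple and in the smooth locus. -/
theorem hpull_cyc_eq [IsAlgClosed k] [LocallyOfFiniteType a] (F : Finset Z)
    (off : ∀ z : Z, z ∉ F → σ z ∉ Set.range s)
    (on : ∀ z ∈ F, z ∈ Set.range j ∧ IsClosed ({z} : Set Z) ∧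
      ∀ (i : Spec (CommRingCat.of k) ⟶ Z) [IsClosedImmersion i] (_ : i ≫ a = 𝟙 _)
        (_ : ∀ x, i x = z), ∃ (N : Z.Opens) (i' : Spec (CommRingCat.of k) ⟶ N), i' ≫ N.ι = i ∧
          IsPullback i' i (N.ι ≫ σ) s)
    (c : HC (ZMod n) Z (2 * m))
    (hc : ∀ (z : Spec (CommRingCat.of k) ⟶ Z) [IsClosedImmersion z] (_ : z ≫ a = 𝟙 _)
      (_ : Set.range z ⊆ Set.range j) (O : Z.Opens) (h : LCI a z O m n), cyc h κ = c) :
    hpull (ZMod n) σ (2 * m) (cyc h κ) = F.card • c := by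
  classical
  have data : ∀ z : Z, ∃ (Oz : Z.Opens) (cz : HS (ZMod n) Oz (2 * m)), z ∈ F →
      ((Oz : Set Z) = {z}ᶜ ∧ Add.Agree z (2 * m)
        (HS.pull (ZMod n) σ (O' := σ ⁻¹ᵁ O) le_rfl (2 * m) (fc h κ)) cz ∧
        HS.forget (ZMod n) Oz (2 * m) cz = c) := by
    intro z
    by_cases hz : z ∈ F
    · obtain ⟨hzj, hzc, H⟩ := on z hz
      obtain ⟨ζ, hζ1, hζ2, hζ3⟩ := exists_point a z hzc
      have hζc : IsClosedImmersion ζ := isClosedImmersion_point a _ hζ1
      have hζ4 : Set.range ζ ⊆ Set.range j := by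
        rw [hζ3]
        exact Set.singleton_subset_iff.2 hzj
      have hL : LCI a ζ ⟨{z}ᶜ, hzc.isOpen_compl⟩ m n :=
        lci_point a j m n hn ζ hζ1 hζ4 _ (by rw [hζ3]; rfl)
      obtain ⟨N, i', hi', w⟩ := H ζ hζ1 hζ2
      refine ⟨_, fc hL κ, fun _ => ⟨rfl, ?_, hc _ hζ1 hζ4 _ hL⟩⟩
      have h1 := agree a j hn h κ σ hσ ζ hζ1 hζ4 hL N i' hi' w (IsLocalRing.closedPoint k)
      rwa [hζ2] at h1
    · exact ⟨⊤, 0, fun h => absurd h hz⟩
  choose Oz cz hOz using data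
  have hOF : ((σ ⁻¹ᵁ O : Z.Opens) : Set Z) = (F : Set Z)ᶜ := by
    ext z
    constructor
    · intro hz hzF
      obtain ⟨-, hzc, H⟩ := on z hzF
      obtain ⟨i, hi1, hi2, -⟩ := exists_point a z hzc
      have hic : IsClosedImmersion i := isClosedImmersion_point a _ hi1
      obtain ⟨N, i', hi', w⟩ := H i hi1 hi2
      have h1 : σ z ∈ (O : Set V) := hz
      rw [h.compl] at h1
      apply h1
      refine ⟨i (IsLocalRing.closedPoint k), ?_⟩
      rw [← Scheme.Hom.comp_apply, ← w.w, ← Category.assoc, hi', Scheme.Hom.comp_apply, hi2]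
    · intro hz
      change σ z ∈ (O : Set V)
      rw [h.compl]
      exact off z hz
  rw [cyc_apply, ← HS.forget_pull (ZMod n) σ (O' := σ ⁻¹ᵁ O) le_rfl,
    Add.forget_eq_sum (2 * m) F _ hOF _ Oz (fun z hz => (hOz z hz).1) cz
      (fun z hz => (hOz z hz).2.1), Finset.sum_congr rfl (fun z hz => (hOz z hz).2.2),
    Finset.sum_const]

end Zeros

end

end Groth.Agent.Vancyc.H687.Main
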