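import Groth.Agent.Sga5.ClosedPush
import Mathlib.Algebra.Homology.DerivedCategory.Ext.ExactSequences

/-!
# `H^N(P, j_! j⁻¹ F) ⟶ H^N(P, F)` is bijective when the closed complement has small cohomological dimension
-/

set_option autoImplicit false
universe u
open CategoryTheory CategoryTheory.Limits AlgebraicGeometry Opposite CategoryTheory.Abelian

namespace Groth.Agent.Vancyc.H687.TopIso

open Groth.Agent.Etcore.OpenClosed Groth.Agent.Sga5.ClosedPush

section abstract

universe w v t

variable {C : Type t} [Category.{v} C] [Abelian C] [HasExt.{w} C] (A : C) {S : ShortComplex C}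
  (hS : S.ShortExact) (N : ℕ)

include hS

theorem surjective_of_subsingleton (h : Subsingleton (Ext.{w} A S.X₃ N)) :
    Function.Surjective (fun x : Ext.{w} A S.X₁ N => x.comp (Ext.mk₀ S.f) (add_zero N)) := by
  intro x
  exact Ext.covariant_sequence_exact₂ A hS x (Subsingleton.elim _ _)

theorem injective_of_subsingleton (h : ∀ M, M + 1 = N → Subsingleton (Ext.{w} A S.X₃ M)) :
    Function.Injective (fun x : Ext.{w} A S.X₁ N => x.comp (Ext.mk₀ S.f) (add_zero N)) := by
  have key : ∀ x : Ext.{w} A S.X₁ N, x.comp (Ext.mk₀ S.f) (add_zero N) = 0 → x = 0 := by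
    intro x hx
    rcases N with _ | M
    · obtain ⟨g, rfl⟩ := (Ext.mk₀_bijective _ _).2 x
      rw [Ext.mk₀_comp_mk₀] at hx
      have h1 : g ≫ S.f = 0 := (Ext.mk₀_bijective _ _).1 (by rw [hx, Ext.mk₀_zero])
      have := hS.mono_f
      rw [(cancel_mono S.f).1 (h1.trans zero_comp.symm), Ext.mk₀_zero]
    · obtain ⟨z, hz⟩ := Ext.covariant_sequence_exact₁ A hS x hx (n₀ := M) rfl
      have := h M rfl
      rw [← hz, Subsingleton.elim z 0, Ext.zero_comp]
  intro x y hxy
  rw [← sub_eq_zero]
  apply key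
  rw [sub_eq_add_neg, Ext.add_comp, Ext.neg_comp, ← sub_eq_add_neg, sub_eq_zero]
  exact hxy

end abstract

variable {C X P : Scheme.{u}} (i : C ⟶ P) [IsClosedImmersion i] (j : X ⟶ P) [IsOpenImmersion j]
  (hd : IsCompl (Set.range i) (Set.range j)) (F : EtCoh.Ab P) (N : ℕ)

include hd in
theorem bijective_HF (h1 : Subsingleton (EtCoh.H C ((EtCoh.pull i).obj F) N))
    (h2 : ∀ M, M + 1 = N → Subsingleton (EtCoh.H C ((EtCoh.pull i).obj F) M)) :
    Function.Bijective ((EtCoh.HF P N).map ((EtShriek.extZeroAdj j).counit.app F)).hom := by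
  have hS := shortExact i j hd F
  have h3 : ∀ M, Subsingleton (EtCoh.H C ((EtCoh.pull i).obj F) M) →
      Subsingleton (EtCoh.H P ((EtCoh.push i).obj ((EtCoh.pull i).obj F)) M) := by
    intro M hM
    obtain ⟨e⟩ := nonempty_H_push i ((EtCoh.pull i).obj F) M
    exact e.toEquiv.subsingleton
  exact ⟨injective_of_subsingleton (EtCoh.const P ℤ) hS N fun M hM => h3 M (h2 M hM),
    surjective_of_subsingleton (EtCoh.const P ℤ) hS N (h3 N h1)⟩

end Groth.Agent.Vancyc.H687.TopIso
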