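import Groth.Agent.Vancyc.H687.TopGen
import Groth.Agent.Vancyc.H687.TopIso

/-!
# The top cohomology of a proper scheme with a dense open subscheme having duality

`HasDual j n N`: the conclusion of `Sga4B.DualFinal.duality` for `j : X ⟶ P`.
* `nonempty_equiv`: `H^N(P, ℤ/n) ≅ ℤ/n`;
* `Hpull_eq_zero`: every class of `H^N(P, ℤ/n)` vanishes on the complement of a point of `X`.
-/

set_option autoImplicit false
universe u

open CategoryTheory CategoryTheory.Limits AlgebraicGeometry Opposite CategoryTheory.Abelian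

namespace Groth.Agent.Vancyc.H687.TopCoh

open Groth.Agent.Sga4B.DualShape Groth.Agent.Etrest.ModAb Groth.Agent.Sga4B.LMLS
  Groth.Agent.Sga4B.DualAsm Groth.Agent.Sga4B Groth.Agent.Etcore.ShriekBasic

noncomputable section

variable {X P : Scheme.{u}} (j : X ⟶ P) [IsOpenImmersion j] (n N : ℕ)

/-- The conclusion of `Sga4B.DualFinal.duality`. -/
def HasDual : Prop := ∃ (K : EtModW.Mod (Lam.{u} n) X)
    (tr : Ext.{u + 1} (Z P) ((Psi j n).obj K) N →+ E.{u} n),
    (∀ (q m : ℕ) (h : m + q = N) (F : EtModW.Mod (Lam.{u} n) X),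
      Function.Bijective (DualFormal.phi (Psi j n) (Z P) tr F h)) ∧
    Nonempty ((ab (Lam.{u} n) X).obj K ≅ EtCoh.const X (ZMod n))

variable {n N} (hD : HasDual j n N) (hn : 0 < n) [PreconnectedSpace X] [Nonempty X]
  {C : Scheme.{u}} (i : C ⟶ P) [IsClosedImmersion i] (hd : IsCompl (Set.range i) (Set.range j))
  (h1 : Subsingleton (EtCoh.H C ((EtCoh.pull i).obj (EtCoh.const P (ZMod n))) N))
  (h2 : ∀ M, M + 1 = N → Subsingleton (EtCoh.H C ((EtCoh.pull i).obj (EtCoh.const P (ZMod n))) M))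

include hD hn hd h1 h2

theorem exists_key : ∃ (K : EtModW.Mod (Lam.{u} n) X) (φ : (Psi j n).obj K ⟶ EtCoh.const P (ZMod n)),
    Function.Bijective ((EtCoh.HF P N).map φ).hom ∧
    Nonempty (EtCoh.H P ((Psi j n).obj K) N ≃+ ZMod n) ∧
    ∀ {T O : Scheme.{u}} (z : T ⟶ X) [IsClosedImmersion (z ≫ j)] [Nonempty T] (ι : O ⟶ P)
      [IsOpenImmersion ι] (_ : Disjoint (Set.range (z ≫ j)) (Set.range ι))
      [PreservesFiniteLimits (EtCoh.pull ι)] (y : EtCoh.H P ((Psi j n).obj K) N),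
      EtCore.Hpull ι ((Psi j n).obj K) N y = 0 := by
  obtain ⟨K, tr, hphi, ⟨e⟩⟩ := hD
  let ε : (ab (Lam.{u} n) X).obj K ≅ (EtShriek.restrAlong j).obj (EtCoh.const P (ZMod n)) :=
    e ≪≫ (EtCore.pullConst j (ZMod n)).symm ≪≫ (pullIsoRestr j).app (EtCoh.const P (ZMod n))
  let φ : (Psi j n).obj K ⟶ EtCoh.const P (ZMod n) :=
    (EtShriek.extZero j).map ε.hom ≫ (EtShriek.extZeroAdj j).counit.app (EtCoh.const P (ZMod n))
  refine ⟨K, φ, ?_, ⟨(AddEquiv.ofBijective tr (TopGen.tr_bijective j tr hphi e hn)).trans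
    AddEquiv.ulift⟩, ?_⟩
  · have h3 := TopIso.bijective_HF i j hd (EtCoh.const P (ZMod n)) N h1 h2
    have h4 : Function.Bijective ((EtCoh.HF P N).map ((EtShriek.extZero j).map ε.hom)).hom :=
      ConcreteCategory.bijective_of_isIso ((EtCoh.HF P N).map ((EtShriek.extZero j).map ε.hom))
    have h5 : (EtCoh.HF P N).map φ = (EtCoh.HF P N).map ((EtShriek.extZero j).map ε.hom) ≫
      (EtCoh.HF P N).map ((EtShriek.extZeroAdj j).counit.app (EtCoh.const P (ZMod n))) :=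
      Functor.map_comp _ _ _
    rw [h5]
    exact h3.comp h4
  · intro T O z _ _ ι _ hdz _ y
    exact TopGen.Hpull_eq_zero j tr hphi e z hn ι hdz y

theorem nonempty_equiv : Nonempty (EtCoh.H P (EtCoh.const P (ZMod n)) N ≃+ ZMod n) := by
  obtain ⟨K, φ, hφ, ⟨e⟩, -⟩ := exists_key j hD hn i hd h1 h2
  exact ⟨(AddEquiv.ofBijective ((EtCoh.HF P N).map φ).hom hφ).symm.trans e⟩

theorem Hpull_eq_zero {T O : Scheme.{u}} (z : T ⟶ X) [IsClosedImmersion (z ≫ j)] [Nonempty T]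
    (ι : O ⟶ P) [IsOpenImmersion ι] (hdz : Disjoint (Set.range (z ≫ j)) (Set.range ι))
    [PreservesFiniteLimits (EtCoh.pull ι)] (x : EtCoh.H P (EtCoh.const P (ZMod n)) N) :
    EtCore.Hpull ι (EtCoh.const P (ZMod n)) N x = 0 := by
  obtain ⟨K, φ, hφ, -, hz⟩ := exists_key j hD hn i hd h1 h2
  obtain ⟨y, rfl⟩ := hφ.2 x
  have h3 := ConcreteCategory.congr_hom
    ((Groth.Agent.Etrest.HpullConst.HpullNat ι N).naturality φ) y
  refine Eq.trans h3 ?_
  exact (congrArg ((EtCoh.HF O N).map ((EtCoh.pull ι).map φ)).hom (hz z ι hdz y)).trans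
    (map_zero ((EtCoh.HF O N).map ((EtCoh.pull ι).map φ)).hom)

end

end Groth.Agent.Vancyc.H687.TopCoh
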