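import Groth.Agent.Sga4B.DualAsm
import Groth.Agent.Vancyc.H687.ConstEnd
import Groth.Agent.Vancyc.H687.DualCons
import Groth.Agent.Vancyc.H687.Sky

/-!
# The top cohomology with compact supports is generated by the class of a point

`j : X ⟶ P` open, `X` connected with duality (`Sga4B.DualFinal.duality`): `K ≅ ℤ/n`,
`tr : H^N(P, j_! K) ⟶ ℤ/n`.
* `tr_bijective`: the trace is bijective;
* `hp_eq_zero`: every class in `H^N(P, j_! K)` vanishes on the complement of any (closed) point of `X`.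
-/

set_option autoImplicit false
universe u

open CategoryTheory CategoryTheory.Limits AlgebraicGeometry Opposite CategoryTheory.Abelian

namespace Groth.Agent.Vancyc.H687.TopGen

open Groth.Agent.Sga4B.DualShape Groth.Agent.Etrest.ModAb Groth.Agent.Sga4B.LMLS
  Groth.Agent.Sga4B.DualAsm Groth.Agent.Sga4B Sky ConstEnd

noncomputable section

variable {X P : Scheme.{u}} (j : X ⟶ P) [IsOpenImmersion j] {n : ℕ}

section End

variable {K : EtModW.Mod (Lam.{u} n) X} (e : (ab (Lam.{u} n) X).obj K ≅ EtCoh.const X (ZMod n))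

include e

theorem end_eq [PreconnectedSpace X] [Nonempty X] (hn : 0 < n) (f : K ⟶ K) :
    ∃ m : ℕ, f = m • 𝟙 K := by
  obtain ⟨m, hm⟩ := const_end X n hn (e.inv ≫ (ab (Lam.{u} n) X).map f ≫ e.hom)
  refine ⟨m, (ab (Lam.{u} n) X).map_injective ?_⟩
  rw [Functor.map_nsmul, CategoryTheory.Functor.map_id]
  have h : (ab (Lam.{u} n) X).map f = e.hom ≫ (m • 𝟙 _) ≫ e.inv := by
    rw [← hm]
    simp
  rw [h, Preadditive.nsmul_comp, Category.id_comp, Preadditive.comp_nsmul, Iso.hom_inv_id]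

theorem end_ord [Nonempty X] (m : ℕ) (h : m • 𝟙 K = 0) : n ∣ m := by
  refine const_ord X n m ?_
  have h1 : m • 𝟙 ((ab (Lam.{u} n) X).obj K) = 0 := by
    rw [← CategoryTheory.Functor.map_id, ← Functor.map_nsmul, h, Functor.map_zero]
  have h2 : m • 𝟙 (EtCoh.const X (ZMod n)) = e.inv ≫ (m • 𝟙 ((ab (Lam.{u} n) X).obj K)) ≫ e.hom := by
    rw [Preadditive.nsmul_comp, Category.id_comp, Preadditive.comp_nsmul, Iso.inv_hom_id]
  rw [h2, h1, zero_comp, comp_zero]

end End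

/-- Homomorphisms to `ℤ/n` separate points. -/
theorem exists_sep (hn : 0 < n) (F : EtModW.Mod (Lam.{u} n) X) (m : ℕ)
    (x : Ext.{u + 1} (Z P) ((Psi j n).obj F) m) (hx : x ≠ 0) :
    ∃ c : Ext.{u + 1} (Z P) ((Psi j n).obj F) m →+ E.{u} n, c x ≠ 0 := by
  by_contra hcon
  push Not at hcon
  refine hx (ZModInj.eq_zero_of_forall n hn (nsmul_ext j F m) x fun b => ?_)
  have h1 : (ULift.up (b x) : E.{u} n) = 0 :=
    hcon ((AddEquiv.ulift.{0, u + 1} (α := ZMod n)).symm.toAddMonoidHom.comp b)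
  exact congrArg ULift.down h1

variable {N : ℕ} {K : EtModW.Mod (Lam.{u} n) X}
  (tr : Ext.{u + 1} (Z P) ((Psi j n).obj K) N →+ E.{u} n)
  (hphi : ∀ (q m : ℕ) (h : m + q = N) (F : EtModW.Mod (Lam.{u} n) X),
    Function.Bijective (DualFormal.phi (Psi j n) (Z P) tr F h))
  (e : (ab (Lam.{u} n) X).obj K ≅ EtCoh.const X (ZMod n))

include hphi e

theorem tr_bijective [PreconnectedSpace X] [Nonempty X] (hn : 0 < n) : Function.Bijective tr :=
  DualCons.tr_bijective tr n hn AddEquiv.ulift (hphi 0 N (add_zero N) K) (end_eq e hn)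
    (end_ord e) (exists_sep j hn K N)

omit hphi e

section Sky

variable {T : Scheme.{u}} (i : T ⟶ X) [IsClosedImmersion (i ≫ j)]

/-- The skyscraper sheaf `i_* Λ`. -/
abbrev skyF (n : ℕ) {T : Scheme.{u}} (i : T ⟶ X) : EtModW.Mod (Lam.{u} n) X :=
  (EtModW.push (Lam.{u} n) i).obj (EtModW.constMod (Lam.{u} n) T (Lam.{u} n))

/-- `j_! i_* Λ ≅ (i ≫ j)_* Λ`. -/
def skyIso (n : ℕ) : (Psi j n).obj (skyF n i) ≅ (EtCoh.push (i ≫ j)).obj (EtCoh.const T (ZMod n)) :=
  (EtShriek.extZero j).mapIso ((pushIso (Lam.{u} n) i).app _) ≪≫ extPushIso i j _ ≪≫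
    (EtCoh.push (i ≫ j)).mapIso ((constIso (Lam.{u} n) T).app (ModuleCat.of (Lam.{u} n) (Lam.{u} n)))

/-- The canonical section of `j_! i_* Λ`. -/
def s₀ (n : ℕ) : Z P ⟶ (Psi j n).obj (skyF n i) :=
  (EtCoh.pullPushAdj (i ≫ j)).homEquiv _ _ ((EtCore.pullConst (i ≫ j) ℤ).hom ≫ red T n) ≫
    (skyIso j i n).inv

theorem s₀_ord [Nonempty T] (m : ℕ) (h : m • s₀ j i n = 0) : n ∣ m := by
  refine red_ord T n m ?_
  have h1 : (m • (EtCoh.pullPushAdj (i ≫ j)).homEquiv _ _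
      ((EtCore.pullConst (i ≫ j) ℤ).hom ≫ red T n)) ≫ (skyIso j i n).inv = 0 ≫ (skyIso j i n).inv := by
    rw [Preadditive.nsmul_comp, zero_comp]
    exact h
  have h2 := (cancel_mono _).1 h1
  have h3 : (EtCoh.pullPushAdj (i ≫ j)).homEquiv _ _
      (m • ((EtCore.pullConst (i ≫ j) ℤ).hom ≫ red T n)) =
      (EtCoh.pullPushAdj (i ≫ j)).homEquiv _ _ 0 := by
    change ((EtCoh.pullPushAdj (i ≫ j)).homAddEquiv _ _) _ =
      ((EtCoh.pullPushAdj (i ≫ j)).homAddEquiv _ _) _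
    rw [map_nsmul, map_zero]
    exact h2
  have h4 := ((EtCoh.pullPushAdj (i ≫ j)).homEquiv _ _).injective h3
  rw [← cancel_epi (EtCore.pullConst (i ≫ j) ℤ).hom, Preadditive.comp_nsmul, comp_zero]
  exact h4

theorem exists_val [Nonempty T] (hn : 0 < n) (w : E.{u} n) :
    ∃ c : Ext.{u + 1} (Z P) ((Psi j n).obj (skyF n i)) 0 →+ E.{u} n, c (Ext.mk₀ (s₀ j i n)) = w := by
  have hE : DualFormal.RelInj.{u + 1} (Psi j n) (Z P) (E.{u} n) :=
    DualExist.relInj_zmod (Psi j n) (Z P) n hn (fun F m x => nsmul_ext j F m x)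
  obtain ⟨b, hb⟩ := hE.exists_extend (skyF n i) 0 (zmultiplesHom _ (Ext.mk₀ (s₀ j i n)))
    (zmultiplesHom _ w) (fun g hg => by
      rw [zmultiplesHom_apply] at hg ⊢
      have h1 : g.natAbs • s₀ j i n = 0 := by
        refine (Ext.mk₀_bijective _ _).1 ?_
        rw [Ext.mk₀_zero]
        have h2 : Ext.mk₀ (g.natAbs • s₀ j i n) = g.natAbs • Ext.mk₀ (s₀ j i n) :=
          map_nsmul (Ext.addEquiv₀.symm) _ _
        rw [h2]
        rcases Int.natAbs_eq g with h | h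
        · rw [h, natCast_zsmul] at hg
          exact hg
        · rw [h, neg_smul, natCast_zsmul, neg_eq_zero] at hg
          exact hg
      obtain ⟨c, hc⟩ := s₀_ord j i _ h1
      have h3 : (n : ℤ) ∣ g := Int.natCast_dvd.2 ⟨c, hc⟩
      obtain ⟨c', rfl⟩ := h3
      apply ULift.down_injective
      change ((n : ℤ) * c') • w.down = 0
      rw [zsmul_eq_mul]
      simp)
  refine ⟨b, ?_⟩
  have h1 := hb 1
  rw [zmultiplesHom_apply, zmultiplesHom_apply, one_smul, one_smul] at h1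
  exact h1

include hphi e

/-- Every class of `H^N(P, j_! K)` comes from the point `T`. -/
theorem exists_yoneda [PreconnectedSpace X] [Nonempty X] [Nonempty T] (hn : 0 < n)
    (y : Ext.{u + 1} (Z P) ((Psi j n).obj K) N) :
    ∃ c : Ext.{u + 1} (skyF n i) K N,
      (Ext.mk₀ (s₀ j i n)).comp (c.mapExactFunctor (Psi j n)) (zero_add N) = y :=
  DualCons.exists_yoneda tr (tr_bijective j tr hphi e hn).1 (hphi N 0 (zero_add N) (skyF n i))
    (Ext.mk₀ (s₀ j i n)) (exists_val j i hn) y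

/-- **Every class of `H^N(P, j_! K)` vanishes off a point.** -/
theorem Hpull_eq_zero [PreconnectedSpace X] [Nonempty X] [Nonempty T] (hn : 0 < n) {O : Scheme.{u}}
    (ι : O ⟶ P) [IsOpenImmersion ι] (hd : Disjoint (Set.range (i ≫ j)) (Set.range ι))
    [PreservesFiniteLimits (EtCoh.pull ι)] (y : EtCoh.H P ((Psi j n).obj K) N) :
    EtCore.Hpull ι ((Psi j n).obj K) N y = 0 := by
  obtain ⟨c, rfl⟩ := exists_yoneda j tr hphi e i hn y
  have h1 : IsZero ((EtCoh.pull ι).obj ((Psi j n).obj (skyF n i))) :=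
    (isZero_pull i j ι hd ((ab (Lam.{u} n) T).obj (EtModW.constMod (Lam.{u} n) T (Lam.{u} n)))).of_iso
      ((EtCoh.pull ι).mapIso ((EtShriek.extZero j).mapIso ((pushIso (Lam.{u} n) i).app _)))
  change (Ext.mk₀ (EtCore.pullConst ι ℤ).inv).comp (Ext.mapExactFunctor (EtCoh.pull ι)
    ((Ext.mk₀ (s₀ j i n)).comp (c.mapExactFunctor (Psi j n)) (zero_add N))) (zero_add N) = 0
  rw [Ext.mapExactFunctor_comp, Ext.mapExactFunctor_mk₀, h1.eq_of_tgt ((EtCoh.pull ι).map _) 0,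
    Ext.mk₀_zero, Ext.zero_comp, Ext.comp_zero]

end Sky

end

end Groth.Agent.Vancyc.H687.TopGen
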